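/- BM tower, interface (blueprints/BM.md part I): amalgams, double coset closures, covers. -/
import Cfsg.Agent.H17.GrCoc

set_option autoImplicit false
open Cfsg H17.Gr H71.Gr

namespace H75.BM
universe v
variable (F : Type) [Field F] [Good F]

/-- the involution interchanging `z` and `qq 4095` -/
noncomputable def sM : Mon F := (tau F)⁻¹ * qq F 4096
/-- the centraliser of `z` and of the elements of `Q` with codes in `T` -/
noncomputable def PP (T : List ℕ) : Subgroup (Mon F) := Subgroup.centralizer ({zM F} ∪ qq F '' {x | x ∈ T})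
/-- `GG [] = M`, `GG TB = 2.B`, `GG TK = 2^2.2E6(2)` -/
noncomputable def GG (T : List ℕ) : Subgroup (Mon F) := Subgroup.closure ((PP F T : Set (Mon F)) ∪ {sM F})
/-- codes of `t = X(vA 0 1)`, `t' = X(vA 0 2)` -/
abbrev TK : List ℕ := [12288, 20480]
/-- code of `t` -/
abbrev TB : List ℕ := [12288]

/-- the relations in the model -/
structure Base : Prop where
  ss : sM F * sM F = 1
  line : (sM F * qq F 4096) ^ 3 = 1
  sz : Cj (sM F) ZC 4095
  s1 : Cj (sM F) 12288 12288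
  s2 : Cj (sM F) 20480 20480
  s3 : Cj (sM F) 61440 61440
  plane : ∃ c ∈ PP F TK, (sM F * c) ^ 3 = 1 ∧ Cj c 4095 61440

/-- an image of the point, line and plane stabilisers in `G` -/
structure Amal (T : List ℕ) (G : Type v) [Group G] where
  ι : PP F T →* G
  s : G
  ss : s * s = 1
  tr : ∀ b b' : PP F T, sM F * b * sM F = b' → s * ι b * s = ι b'
  line : ∀ n : PP F T, n.1 = qq F 4096 → (s * ι n) ^ 3 = 1
  plane : ∃ c : PP F T, (sM F * c) ^ 3 = 1 ∧ Cj c.1 4095 61440 ∧ (s * ι c) ^ 3 = 1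

variable {F}
theorem mem_PP {T : List ℕ} {g : Mon F} :
    g ∈ PP F T ↔ g * zM F = zM F * g ∧ ∀ x ∈ T, Cj g x x := by
  simp only [PP, Subgroup.mem_centralizer_iff, Set.mem_union, Set.mem_singleton_iff, Set.mem_image,
    Set.mem_ofPred_eq, Cj, mul_inv_eq_iff_eq_mul]
  refine ⟨fun h => ⟨(h _ (.inl rfl)).symm, fun x hx => (h _ (.inr ⟨x, hx, rfl⟩)).symm⟩, ?_⟩
  rintro ⟨h1, h2⟩ _ (rfl | ⟨x, hx, rfl⟩)
  exacts [h1.symm, (h2 x hx).symm]
theorem PP_mono {T T' : List ℕ} (h : T ⊆ T') : PP F T' ≤ PP F T := fun _ hg =>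
  mem_PP.2 ⟨(mem_PP.1 hg).1, fun x hx => (mem_PP.1 hg).2 x (h hx)⟩
theorem PP_le_GG {T : List ℕ} : PP F T ≤ GG F T := fun _ h => Subgroup.subset_closure (.inl h)
theorem sM_mem {T : List ℕ} : sM F ∈ GG F T := Subgroup.subset_closure (.inr rfl)

/-- the model amalgam -/
noncomputable def Base.amal (h : Base F) {T : List ℕ} (hT : T ⊆ TK) : Amal F T (Mon F) where
  ι := (PP F T).subtype
  s := sM F
  ss := h.ss
  tr _ _ e := e
  line n e := by rw [Subgroup.coe_subtype, e, h.line]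
  plane := let ⟨c, hc, e⟩ := h.plane; ⟨⟨c, PP_mono hT hc⟩, e.1, e.2, e.1⟩

/-- value of a word -/
noncomputable def Amal.ev {T : List ℕ} {G : Type v} [Group G] (A : Amal F T G) (w : List (PP F T)) : G :=
  (w.map fun a => A.ι a * A.s).prod
/-- value of a word in the model -/
noncomputable def evM {T : List ℕ} (w : List (PP F T)) : Mon F := (w.map fun a => a.1 * sM F).prod
/-- admissible base subgroups; `t` is the code that is added on the next lower level -/
def Amal.Bs {T : List ℕ} {G : Type v} [Group G] (A : Amal F T G) (t : Option ℕ) (H : Subgroup G) : Prop :=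
  match t with
  | none => ∀ c, A.ι c ∈ H
  | some t => A.s ∈ H ∧ ∀ c : PP F T, Cj c.1 t t → A.ι c ∈ H
variable (F)
/-- the largest base subgroup in the model -/
noncomputable def Hm (T : List ℕ) : Option ℕ → Subgroup (Mon F)
  | none => PP F T
  | some t => Subgroup.centralizer {qq F t}
/-- the neighbours of `z` -/
def Om (T : List ℕ) : Set (Mon F) := {p | ∃ c ∈ PP F T, c * qq F 4095 * c⁻¹ = p}
/-- the classes modulo `z` of the neighbours of `z` -/
def OmL (T : List ℕ) : Set ℕ :=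
  {x | x < 2 ^ 24 ∧ (qq F x ∈ Om F T ∨ qq F x * zM F ∈ Om F T)}

/-- double coset closure with `n` classes and neighbour numbers `m` -/
def DC (T : List ℕ) (t : Option ℕ) (n : ℕ) (m : List (List ℕ)) : Prop :=
  ∃ (w : ℕ → List (PP F T)) (lab : ℕ → Mon F → ℕ), w 0 = [] ∧
    (∀ i < n, ∀ p ∈ Om F T, lab i p < n) ∧
    (∀ i < n, ∀ k < n, {p ∈ Om F T | lab i p = k}.ncard = (m.getD i []).getD k 0) ∧
    (∀ k < n, k ≠ 0 → (m.getD 0 []).getD k 0 ≠ 0 →
      ∀ h ∈ Hm F T t, ∀ c ∈ PP F T, evM (w k) ≠ h * c) ∧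
    ∀ (G : Type v) [Group G] (A : Amal F T G) (H : Subgroup G), A.Bs t H → ∀ i < n, ∀ c : PP F T,
      ∃ c' : PP F T, A.ev (w i) * A.ι c * A.s *
        (A.ev (w (lab i (c.1 * qq F 4095 * c.1⁻¹))) * A.ι c')⁻¹ ∈ H
/-- neighbour numbers for `2^2.2E6(2)` -/
def mK : List (List ℕ) := [[0, 1782, 0, 0, 0], [1, 85, 672, 1024, 0], [0, 27, 27, 1728, 0],
  [0, 1, 42, 715, 1024], [0, 0, 0, 891, 891]]
/-- neighbour numbers for `2.B` -/
def mB : List (List ℕ) := [[1782, 41472, 49896, 0, 0], [1, 5391, 462, 42240, 45056],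
  [63, 24192, 4383, 64512, 0], [0, 2160, 63, 26415, 64512], [0, 891, 0, 24948, 67311]]
/-- neighbour numbers for `M`: 2A 2B 4A 4B 4C 6A 8B 6C 10B 10A 12C 6F -/
def mM : List (List ℕ) := [[93150, 8197200, 8294400, 0, 0, 0, 0, 0, 0, 0, 0, 0],
  [135, 64935, 483840, 7741440, 8294400, 0, 0, 0, 0, 0, 0, 0],
  [1, 3542, 35927, 2007808, 971520, 1036288, 5275648, 7254016, 0, 0, 0, 0],
  [0, 63, 2232, 137367, 151200, 96768, 3870720, 2225664, 1548288, 2064384, 6488064, 0],
  [0, 15, 240, 33600, 54255, 0, 430080, 860160, 7311360, 491520, 6881280, 522240],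
  [0, 0, 891, 74844, 0, 133731, 8382528, 2020788, 0, 953856, 5018112, 0],
  [0, 0, 1, 660, 330, 1848, 2217999, 134024, 6052992, 275200, 7817216, 84480],
  [0, 0, 27, 7452, 12960, 8748, 2631744, 321003, 5142528, 511488, 7948800, 0],
  [0, 0, 0, 60, 1275, 0, 1375680, 59520, 6435735, 131520, 8309760, 271200],
  [0, 0, 0, 3850, 4125, 2300, 3010000, 284900, 6329400, 411775, 6538400, 0],
  [0, 0, 0, 198, 945, 198, 1399104, 72450, 6543936, 106992, 8186607, 274320],
  [0, 0, 0, 0, 2295, 0, 483840, 0, 6834240, 0, 8778240, 486135]]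
/-- the three closures (helper75) -/
def JobDC : Prop :=
  DC.{v} F TK none 5 mK ∧ DC.{v} F TB (some 20480) 5 mB ∧ DC.{v} F [] (some 12288) 12 mM

/-- universal property -/
def Univ (T : List ℕ) : Prop := ∀ (G : Type v) [Group G] (A : Amal F T G),
  ∃ Φ : GG F T →* G, (∀ c : PP F T, Φ ⟨c, PP_le_GG c.2⟩ = A.ι c) ∧ Φ ⟨sM F, sM_mem⟩ = A.s
/-- universal properties -/
def JobU : Prop := Univ.{v} F TK ∧ Univ.{v} F TB ∧ Univ.{v} F []
/-- orders and centralisers -/
structure Ord : Prop where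
  cardM : Nat.card (GG F []) = 808017424794512875886459904961710757005754368000000000
  cardB : Nat.card (GG F TB) = 2 * 4154781481226426191177580544000000
  cardK : Nat.card (GG F TK) = 4 * 76532479683774853939200
  centB : Subgroup.centralizer {qq F 12288} ⊓ GG F [] = GG F TB
  centK : Subgroup.centralizer {qq F 20480} ⊓ GG F TB = GG F TK
/-- numbers of lines on `z` -/
def JobOm : Prop :=
  (OmL F TK).Finite ∧ (OmL F TK).ncard ≤ 891 ∧ (OmL F TB).ncard ≤ 46575 ∧ (OmL F []).ncard ≤ 8292375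

/-- the action of data on classes modulo `z` -/
noncomputable def apL (D : List ℕ) (x : ℕ) : ℕ := app D x % 2 ^ 24
/-- labelled cover: the points reached from the seeds `(x, label)` by the generators `gs` contain
disjoint sets of the sizes `ns` -/
def Cov (gs : List (List ℕ)) (sd : List (ℕ × ℕ)) (ns : List ℕ) : Prop :=
  ∀ A : ℕ → ℕ → Prop, (∀ l x, x < 2 ^ 24 → A l x → ∀ D ∈ gs, A l (apL D x)) →
    (∀ q ∈ sd, A q.2 q.1) → ∃ S : ℕ → Finset ℕ,
      (∀ l < ns.length, (S l).card = ns.getD l 0 ∧ ∀ x ∈ S l, x < 2 ^ 24 ∧ A l x) ∧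
      ∀ l < ns.length, ∀ l' < l, Disjoint (S l) (S l')

end H75.BM
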