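/- BM tower: exact arithmetic in `C = 2^(1+24).Co1` on packed numbers, definitions. -/
import Cfsg.Agent.H75.BMDefs

set_option autoImplicit false
open Cfsg H17.Gr H71.Gr

namespace H75.BM

/-- `(2^a - 1) / b` -/
def rp (a b : ℕ) : ℕ := Nat.div (Nat.sub (Nat.pow 2 a) 1) b
/-- one in 25 fields of 32 bits -/
def J32 : ℕ := rp 800 4294967295
/-- parity of the low 12 bits of the fields -/
def fold (t : ℕ) : ℕ := (fun u => (fun v => Nat.xor v (Nat.xor (Nat.shiftRight v 1) (Nat.shiftRight v 2)))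
  (Nat.xor u (Nat.shiftRight u 3))) (Nat.xor t (Nat.shiftRight t 6))
/-- adds the parities to the sign bits -/
def sgnP (a t : ℕ) : ℕ := Nat.xor a (Nat.shiftLeft (Nat.land (fold t) J32) 24)
/-- loop of `cmpP` -/
noncomputable def cl (n : ℕ) : ℕ → ℕ → ℕ → ℕ → ℕ :=
  Nat.rec (motive := fun _ => ℕ → ℕ → ℕ → ℕ → ℕ) (fun _ _ a t => sgnP a t) (fun _ ih D E a t =>
    (fun m => ih (Nat.shiftRight D 32) (Nat.shiftRight E 1) (Nat.xor a m)
      (Nat.xor t (Nat.land (Nat.shiftRight a 12) m))) (Nat.mul (Nat.land E J32) (Nat.land D 33554431))) n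
/-- images of the codes in the fields of `E` under the packed data `D` -/
noncomputable def cmpP (D E : ℕ) : ℕ := cl 24 D E (Nat.land E (Nat.shiftLeft J32 24)) 0
/-- 768 ones -/
def M768 : ℕ := rp 768 1
/-- packed identity data -/
noncomputable def idP : ℕ := Nat.rec (motive := fun _ => ℕ) 0 (fun i a => Nat.add a (Nat.pow 2 (Nat.mul 33 i))) 24

/-- one in 24 fields of 16 bits -/
def O24 : ℕ := rp 384 65535
/-- one in 24 fields of 384 bits -/
def J384 : ℕ := rp 9216 (rp 384 1)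
/-- one in 576 fields of 16 bits -/
def O576 : ℕ := rp 9216 65535
/-- loop of `colM` -/
noncomputable def al (n : ℕ) : ℕ → ℕ → ℕ → ℕ → ℕ → ℕ :=
  Nat.rec (motive := fun _ => ℕ → ℕ → ℕ → ℕ → ℕ → ℕ)
    (fun _ _ s p q => Nat.shiftRight (Nat.sub (Nat.add s (Nat.mul 1600 O576))
      (Nat.mul 8 (Nat.add (Nat.mul p J384) (Nat.mul q O24)))) 3)
    (fun _ ih A B s p q => (fun a b => ih (Nat.shiftRight A 384) (Nat.shiftRight B 16)
      (Nat.add s (Nat.mul a b)) (Nat.add p a) (Nat.add q b))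
      (Nat.land A (rp 384 1)) (Nat.land B (Nat.mul 65535 J384))) n
/-- product of packed matrices (digit `24 i + p` = entry `p` of the image of `8 e_i`, plus 8) -/
noncomputable def colM (A B : ℕ) : ℕ := al 24 A B 0 0 0
/-- transposed packed matrix -/
noncomputable def colT (A : ℕ) : ℕ := Nat.rec (motive := fun _ => ℕ) 0 (fun t a => Nat.add a (Nat.shiftLeft
  (H77.dk A (Nat.add (Nat.mul 24 (Nat.mod t 24)) (Nat.div t 24))) (Nat.mul 16 t))) 576
/-- packed identity matrix -/
def colI : ℕ := Nat.mul 8 (Nat.add O576 (Nat.mod (rp 9600 (rp 400 1)) (Nat.pow 2 9216)))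

/-- positions below 8192 whose digit `s` vanishes -/
def mk (s : ℕ) : ℕ := rp 8192 (Nat.add (Nat.pow 2 s) 1)
/-- conditional translation of the positions by `s` -/
noncomputable def cs (e s W : ℕ) : ℕ := Nat.rec (motive := fun _ => ℕ) W (fun _ _ =>
  Nat.lor (Nat.shiftLeft (Nat.land W (mk s)) s) (Nat.land (Nat.shiftRight W s) (mk s))) (Nat.land e s)
/-- translation of the positions by the low 12 bits of `e` -/
noncomputable def tl (e W : ℕ) : ℕ := cs e 2048 (cs e 1024 (cs e 512 (cs e 256 (cs e 128 (cs e 64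
  (cs e 32 (cs e 16 (cs e 8 (cs e 4 (cs e 2 (cs e 1 W)))))))))))
/-- parities of `a & i` -/
def PT2 : ℕ := nat_lit 0x6996966996696996c33c3cc33cc3c33ca55a5aa55aa5a55a0ff0f00ff00f0ff0996666996699996633cccc33cc3333cc55aaaa55aa5555aaff0000ff00ffff0096966969696996963c3cc3c3c3c33c3c5a5aa5a5a5a55a5af0f00f0f0f0ff0f06666999999996666cccc33333333ccccaaaa55555555aaaa0000ffffffff000096699669699669963cc33cc3c33cc33c5aa55aa5a55aa55af00ff00f0ff00ff06699669999669966cc33cc3333cc33ccaa55aa5555aa55aa00ff00ffff00ff006969696996969696c3c3c3c33c3c3c3ca5a5a5a55a5a5a5a0f0f0f0ff0f0f0f0999999996666666633333333cccccccc55555555aaaaaaaaffffffff0000000096696996966969963cc3c33c3cc3c33c5aa5a55a5aa5a55af00f0ff0f00f0ff06699996666999966cc3333cccc3333ccaa5555aaaa5555aa00ffff0000ffff006969969669699696c3c33c3cc3c33c3ca5a55a5aa5a55a5a0f0ff0f00f0ff0f099996666999966663333cccc3333cccc5555aaaa5555aaaaffff0000ffff00006996699669966996c33cc33cc33cc33ca55aa55aa55aa55a0ff00ff00ff00ff0996699669966996633cc33cc33cc33cc55aa55aa55aa55aaff00ff00ff00ff0096969696969696963c3c3c3c3c3c3c3c5a5a5a5a5a5a5a5af0f0f0f0f0f0f0f06666666666666666ccccccccccccccccaaaaaaaaaaaaaaaa0000000000000000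
/-- row of `PT2` -/
def pat (a : ℕ) : ℕ := Nat.land (Nat.shiftRight PT2 (Nat.mul 64 (Nat.land a 63))) 18446744073709551615
/-- the signs of the code `x` on the 4096 points -/
def lin (x : ℕ) : ℕ := Nat.xor (Nat.xor
  (Nat.mul (pat (Nat.shiftRight x 12)) (rp 4096 18446744073709551615))
  (Nat.mul (Nat.land (Nat.mul (pat (Nat.shiftRight x 18)) (rp 4032 9223372036854775807))
    (rp 4096 18446744073709551615)) 18446744073709551615))
  (Nat.mul (Nat.land (Nat.shiftRight x 24) 1) (rp 4096 1))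
/-- action of a code on a state (low half: signs, high half: support) -/
noncomputable def rhoW (x W : ℕ) : ℕ := tl x (Nat.xor W (lin x))

/-- data of an element: action on `Q`, matrix, state, scale -/
structure Dat where
  D : ℕ
  A : ℕ
  W : ℕ
  k : ℕ
/-- failure -/
def bad : Dat := ⟨0, 0, 0, 0⟩
/-- no failure -/
def okb (W : ℕ) : Bool := Nat.ble 1 (Nat.shiftRight W 4096)
/-- result or failure -/
noncomputable def grd (c : Bool) (d : Dat) : Dat := Bool.rec (motive := fun _ => Dat) bad d c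
/-- the projectors of the codes in the fields of `M` -/
noncomputable def pl (f : ℕ → ℕ → Dat) (n : ℕ) : ℕ → ℕ → ℕ → Dat :=
  Nat.rec (motive := fun _ => ℕ → ℕ → ℕ → Dat) (fun _ W k => f W k) (fun _ ih M W k => (fun t => (fun X =>
    Nat.rec (motive := fun _ => Dat)
      (ih (Nat.shiftRight M 32) (Nat.xor W (Nat.land (Nat.shiftLeft X 4096) W)) k)
      (fun _ _ => Nat.rec (motive := fun _ => Dat)
        (ih (Nat.shiftRight M 32) ((fun s => Nat.xor (Nat.xor t (Nat.land X s)) (Nat.shiftLeft s 4096))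
          (Nat.shiftRight W 4096)) (Nat.succ k))
        (fun _ _ => bad) (Nat.shiftRight (Nat.land W t) 4096))
      (Nat.shiftRight X 4096)) (Nat.xor W t)) (rhoW M W)) n
/-- a point of the support -/
noncomputable def top (W : ℕ) : ℕ := Nat.land 4095 (Nat.rec (motive := fun _ => ℕ → ℕ → ℕ) (fun _ d => d)
  (fun i ih S d => (fun s => (fun T => Nat.rec (motive := fun _ => ℕ) (ih S d) (fun _ _ => ih T (Nat.add d s)) T)
    (Nat.shiftRight S s)) (Nat.pow 2 i)) 12 (Nat.shiftRight W 4096) 0)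
/-- 24 fields and one more -/
def ext1 (D d : ℕ) : ℕ := Nat.xor (Nat.land D M768) (Nat.shiftLeft d 768)
/-- change of sign -/
def sgx' (x b : ℕ) : ℕ := Nat.xor x (Nat.shiftLeft (Nat.land b 1) 24)
/-- product -/
noncomputable def mulD (g h : Dat) : Dat := (fun d => (fun R =>
  pl (fun W j => grd (okb g.W && H72.tb h.W (Nat.add 4096 d) && Nat.ble h.k j) ⟨Nat.land R M768, colM g.A h.A, W, Nat.sub j h.k⟩)
    12 (Nat.shiftRight R 384) (rhoW (sgx' (Nat.shiftRight R 768) (Nat.shiftRight h.W d)) g.W) g.k)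
  (cmpP g.D (ext1 h.D d))) (top h.W)
/-- left multiplication by a code -/
noncomputable def lX (x : ℕ) (g : Dat) : Dat := grd (okb g.W)
  ⟨sgnP g.D (Nat.xor (Nat.land (Nat.shiftRight g.D 12) (Nat.mul (Nat.land x 4095) J32))
    (Nat.land g.D (Nat.mul (Nat.land (Nat.shiftRight x 12) 4095) J32))), g.A, rhoW x g.W, g.k⟩
/-- inverse; the certificate holds the inverse data and a point -/
noncomputable def invD (g : Dat) (c : ℕ) : Dat := (fun R d => (fun t =>
  pl (fun W j => grd (okb g.W && Nat.ble g.k j && Nat.beq (Nat.land R M768) idP && Nat.blt d 4096 &&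
      H72.tb t 4096) ⟨Nat.land c M768, colT g.A, W, Nat.sub j g.k⟩)
    12 (Nat.shiftRight c 384) (Nat.shiftLeft (Nat.add (Nat.pow 2 4096) (Nat.land t 1)) d) 0)
  (rhoW (Nat.shiftRight R 768) g.W)) (cmpP g.D c) (Nat.shiftRight c 768)
/-- identity -/
noncomputable def oneD : Dat := ⟨idP, colI, Nat.pow 2 4096, 0⟩
/-- test: `g` or its negative has a permutation matrix, fixes the first basis vector and `qq 4095` -/
noncomputable def isA0 (g : Dat) (ng : ℕ) : Bool :=
  Nat.beq (cmpP g.D 4095) 4095 && Nat.beq g.k 0 && Nat.beq (Nat.shiftRight g.W 4096) 1 &&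
    Nat.beq (Nat.land g.W 1) ng && Nat.beq (Nat.rec (motive := fun _ => ℕ)
      (Nat.xor (Nat.land (Nat.lor (Nat.shiftRight g.A 3) (Nat.shiftRight g.A 4)) O576) O576)
      (fun _ _ => Nat.land (Nat.shiftRight g.A 4) O576) ng) 0
/-- left multiplication by `s (qq e) s`, from two tables -/
noncomputable def lY (Y : List Dat) (e : ℕ) (g : Dat) : Dat :=
  mulD (Y.getD (Nat.land e 63) bad) (mulD (Y.getD (Nat.add 64 (Nat.land (Nat.shiftRight e 6) 63)) bad) g)
/-- conjugation by `s` -/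
noncomputable def thD (Y : List Dat) (b : Dat) : Dat := (fun w => (fun a : Dat => (fun d ng => (fun σ =>
  (fun a0 : Dat => grd (isA0 a0 ng)
    (lX w (lY Y d (lX (mul (Nat.mul σ 4095) (mul 4096 (cmpP a0.D 4096))) a0))))
  (lX (Nat.xor d (Nat.shiftLeft σ 24)) a)) (Nat.xor (Nat.land (Nat.shiftRight a.W d) 1) ng))
  (top a.W)
  (Nat.rec (motive := fun _ => ℕ) 1 (fun _ _ => 0) (Nat.land (Nat.shiftRight a.A 4) O576)))
  (lY Y w b)) (Nat.land (Nat.shiftRight b.D 384) 4095)

end H75.BM
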