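/- The Schur multiplier of `²E₆(2)`, part 1: Curtis–Tits relations in a central extension. -/
import Cfsg.Agent.H21.Cover
import Cfsg.Agent.H21.BMB2
import Cfsg.Agent.H79.MT3
import Cfsg.Agent.H46.BMA4

set_option autoImplicit false
open Cfsg Subgroup H46.BM H21 H21.BM
open scoped commutatorElement IsMulCommutative

namespace H75.E6M
variable {Γ G : Type*} [Group Γ] [Group G]

theorem k1 {s : Γ →* G} (hs : IsCentralExt s) {y g : Γ}
    (h : s g ∈ ⁅centralizer {s y}, centralizer {s y}⁆) : Commute g y := by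
  let H := (centralizer {s y}).comap s
  have k : ∀ a : H, ⁅a.1, y⁆ ∈ center Γ := fun a => hs.2 (by
    rw [MonoidHom.mem_ker, map_commutatorElement, commutatorElement_eq_one_iff_commute]
    exact mem_centralizer_singleton_iff.1 a.2)
  let φ : H →* center Γ := MonoidHom.mk' (fun a => ⟨_, k a⟩) fun a b => Subtype.ext (by
    have := mem_center_iff.1 (k b)
    calc ⁅a.1 * b, y⁆ = a * ⁅b.1, y⁆ * (y * a.1⁻¹ * y⁻¹) := by simp only [commutatorElement_def]; group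
      _ = ⁅a.1, y⁆ * ⁅b.1, y⁆ := by rw [mul_assoc, ← this, ← mul_assoc]; simp only [commutatorElement_def, mul_assoc])
  rw [← map_comap_eq_self_of_surjective hs.1 (centralizer _), ← map_commutator, ← map_subtype_commutator] at h
  obtain ⟨_, ⟨x, hx, rfl⟩, e⟩ := h
  have a : Commute x.1 y := commutatorElement_eq_one_iff_commute.1
    (congrArg Subtype.val (Abelianization.commutator_subset_ker φ hx : φ x = 1))
  have b : Commute (x.1⁻¹ * g) y := (mem_center_iff.1 (hs.2 (by simp [MonoidHom.mem_ker, ← e])) y).symm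
  simpa using a.mul_left b

theorem sq_comm {b c : Γ} (hb : b * b = 1) (h : Commute ⁅b, c⁆ b) : ⁅b, c⁆ * ⁅b, c⁆ = 1 := by
  calc ⁅b, c⁆ * ⁅b, c⁆ = ⁅b, c⁆ * b * (c * b⁻¹ * c⁻¹) := by simp only [commutatorElement_def, mul_assoc]
    _ = b * b * c * (b * b)⁻¹ * c⁻¹ * (c * b * c⁻¹ * c * b⁻¹ * c⁻¹) := by
      rw [h.eq]; simp only [commutatorElement_def]; group
    _ = 1 := by rw [hb]; group

theorem wconj {m a b : Γ} (h1 : Commute m a) (h2 : ⁅a, ⁅m, b⁆⁆ = m) :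
    a * b * a * m * (a * b * a)⁻¹ = ⁅m, b⁆⁻¹ := by
  calc _ = a * b * (a * m * a⁻¹) * b⁻¹ * a⁻¹ := by group
    _ = (⁅a, ⁅m, b⁆⁆ * ⁅m, b⁆)⁻¹ * (a * m * a⁻¹) := by
      rw [conj_eq h1.symm]; nth_rewrite 4 [← conj_eq h1.symm]; simp only [commutatorElement_def]; group
    _ = _ := by rw [h2, conj_eq h1.symm]; group

theorem zeta {p m y ζ : Γ} {A : Fin 5 → Γ} (a2 : ∀ i, A i * A i = 1) (a5 : A 0 * A 1 * A 2 * A 3 * A 4 = 1)
    (m2 : m * m = 1) (ma : ∀ i, Commute m (A i)) (ca : ∀ i, Commute ⁅p, A i⁆ (A i))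
    (mc : ∀ i, ⁅m, ⁅p, A i⁆⁆ = A i * ζ) (z : ζ ∈ center Γ) (hy : ∀ i j, i < j → ⁅A i, ⁅p, A j⁆⁆ = y)
    (ya : ∀ i, Commute y (A i)) (yp : Commute y p) : ζ = 1 := by
  have z' : ∀ g, Commute ζ g := fun g => (mem_center_iff.1 z g).symm
  have z2 : ζ * ζ = 1 := by
    have := sq_comm m2 (c := ⁅p, A 0⁆) (by rw [mc]; exact (ma 0).symm.mul_left (z' m))
    rwa [mc, (z' _).mul_mul_mul_comm, a2, one_mul] at this
  have y2 : y * y = 1 := by
    have := sq_comm (a2 0) (c := ⁅p, A 1⁆) (by rw [hy 0 1 (by decide)]; exact ya 0)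
    rwa [hy 0 1 (by decide)] at this
  obtain ⟨c, hc⟩ : ∃ c : Fin 5 → Γ, ∀ i, ⁅p, A i⁆ = c i := ⟨_, fun _ => rfl⟩
  have yc : ∀ i, c i * y = y * c i := fun i => by
    rw [← hc]; exact (((yp.mul_right (ya i)).mul_right yp.inv_right).mul_right (ya i).inv_right).symm
  have e1 : c 0 * A 0 * (c 1 * A 1) * (c 2 * A 2) * (c 3 * A 3) * (c 4 * A 4) = 1 := by
    calc _ = p * (A 0 * A 1 * A 2 * A 3 * A 4) * p⁻¹ := by simp only [← hc, commutatorElement_def]; group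
      _ = 1 := by rw [a5]; group
  simp only [hc] at ca mc hy
  have k : ∀ i j, i < j → ∀ x, A i * (c j * x) = y * (c j * (A i * x)) := fun i j h x => by
    rw [← hy i j h, commutatorElement_def]; group
  have ky : ∀ i x, A i * (y * x) = y * (A i * x) := fun i x => by rw [← mul_assoc, ← (ya i).eq, mul_assoc]
  have kc : ∀ i x, c i * (y * x) = y * (c i * x) := fun i x => by rw [← mul_assoc, yc, mul_assoc]
  have kk : ∀ x, y * (y * x) = x := fun x => by rw [← mul_assoc, y2, one_mul]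
  have e2 : c 0 * c 1 * c 2 * c 3 * c 4 = 1 := by
    have := e1
    simp (disch := decide) only [mul_assoc, k, ky, kc, kk] at this a5 ⊢
    simpa [a5] using this
  have km : ∀ i, MulAut.conj m (c i * A i) = ζ * c i := fun i => by
    calc _ = ⁅m, c i⁆ * c i * (m * A i * m⁻¹) := by simp only [MulAut.conj_apply, commutatorElement_def]; group
      _ = _ := by
        rw [mc, (ma i).eq, mul_inv_cancel_right, ← (z' _).eq, mul_assoc, mul_assoc, (ca i).eq, ← mul_assoc (A i), a2,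
          one_mul]
  have e3 := congrArg (MulAut.conj m) e1
  have kz : ∀ i x, c i * (ζ * x) = ζ * (c i * x) := fun i x => by rw [← mul_assoc, ← (z' _).eq, mul_assoc]
  have zz : ∀ x, ζ * (ζ * x) = x := fun x => by rw [← mul_assoc, z2, one_mul]
  rw [map_mul, map_mul, map_mul, map_mul, km, km, km, km, km, map_one] at e3
  simp only [mul_assoc, kz, zz] at e2 e3
  simpa [e2] using e3

theorem red {U A : Type*} [Group U] [CommGroup A] (hA : HasSchurMultiplier U A) (hU : commutator U = ⊤)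
    {σ : Γ →* G} (hσ : IsStemExtension σ) (κ : U →* G)
    (h : ∀ (N : Subgroup Γ) [N.Normal] (s : Γ ⧸ N →* G), IsStemExtension s → ∀ κ' : U →* Γ ⧸ N,
      (∀ u, s (κ' u) = κ u) → Function.Injective s) : ∃ θ : A →* σ.ker, Function.Surjective θ := by
  have c := isCentralExt_pullbackFst κ σ (isCentralExt_of_stem hσ)
  let R := (pullbackFst κ σ).comp (commutator _).subtype
  have r : IsStemExtension R := isStem_commutator c.1 c.2 hU
  obtain ⟨θ, hθ⟩ := multiplier_surj_stem hA R r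
  let ι := (pullbackSnd κ σ).comp (commutator _).subtype
  have e : ∀ x, σ (ι x) = κ (R x) := fun x => (pullback_comm κ σ x).symm
  have l : R.ker.map ι ≤ σ.ker := by
    rintro _ ⟨x, hx, rfl⟩
    rw [MonoidHom.mem_ker, e, hx, map_one]
  have := normal_of_le_center (l.trans hσ.2.1)
  have q := QuotientGroup.mk'_surjective (R.ker.map ι)
  obtain ⟨κ', hκ⟩ := H79.exists_desc_hom R r.1 ((QuotientGroup.mk' (R.ker.map ι)).comp ι) fun x hx =>
    (QuotientGroup.eq_one_iff _).2 ⟨x, hx, rfl⟩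
  have i := h _ (QuotientGroup.lift _ σ l) ⟨fun g => (hσ.1 g).elim fun x hx => ⟨x, hx⟩, fun x hx => by
    obtain ⟨x, rfl⟩ := q x
    exact mem_center_iff.2 fun g => by
      obtain ⟨g, rfl⟩ := q g
      rw [← map_mul, mem_center_iff.1 (hσ.2.1 hx), map_mul], fun x hx => by
    obtain ⟨x, rfl⟩ := q x
    exact map_mem_commutator _ (hσ.2.2 hx)⟩ κ' fun u => by
    obtain ⟨x, rfl⟩ := r.1 u
    rw [hκ]; exact e x
  refine ⟨((ι.comp R.ker.subtype).codRestrict _ fun x => l ⟨x, x.2, rfl⟩).comp θ, fun x => ?_⟩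
  obtain ⟨y, hy, e⟩ := (QuotientGroup.eq_one_iff x.1).1 ((injective_iff_map_eq_one _).1 i x.1 x.2)
  obtain ⟨a, ha⟩ := hθ ⟨y, hy⟩
  exact ⟨a, Subtype.ext ((congrArg (fun b : R.ker => ι b) ha).trans e)⟩

/-- the element of a word -/
noncomputable def uu (w : ℕ) : U := ⟨wd w, wd_mem w⟩
/-- conjugating words -/
def lw : Fin 5 → ℕ := ![0, 3, 4, 0x43, 0x53]
/-- five transvections with product one -/
def uw : Fin 5 → ℕ := ![1, 0x313, 0x414, 0x43134, 0x53135]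
/-- words that move the first pair -/
def gw : Fin 5 → Fin 5 → ℕ :=
  ![![0, 0, 6, 0x65, 5], ![0, 0, 0x365, 0x36, 0x64], ![0, 0, 0, 4, 0x45], ![0, 0, 0, 0, 0x464], 0]

theorem uu_fix {w : ℕ} (i : Fin 20) (h : Nat.beq (apw w (2 ^ i.1)) (2 ^ i.1) = true) : (uu w).1 • e i = e i :=
  vd_pow i ▸ (rl_wd w).app h
theorem uu_conj {g a b : ℕ} (h : eqB (fun u => apw g (apw a u)) (fun u => apw b (apw g u)) = true) :
    uu g * uu a * (uu g)⁻¹ = uu b :=
  mul_inv_eq_iff_eq_mul.2 (Subtype.ext (((rl_wd g).mul (rl_wd a)).eq ((rl_wd b).mul (rl_wd g)) h))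
theorem uu1 : uu 1 = ⟨t0, t0_mem⟩ := Subtype.ext ((rl_wd 1).eq rl_t0 (by decide +kernel))
theorem n1 (i : Fin 5) : (uu (lw i)).1 • e 0 = e 0 ∧ (uu (lw i)).1 • e 19 = e 19 ∧
    uu (lw i) * ⟨t0, t0_mem⟩ * (uu (lw i))⁻¹ = uu (uw i) ∧ (uu (uw i)).1 • e 1 = e 1 :=
  ⟨uu_fix 0 (by revert i; decide +kernel), uu_fix 19 (by revert i; decide +kernel),
    uu1 ▸ uu_conj (by revert i; decide +kernel), uu_fix 1 (by revert i; decide +kernel)⟩
theorem n2 : uu (uw 0) * uu (uw 1) * uu (uw 2) * uu (uw 3) * uu (uw 4) = 1 :=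
  Subtype.ext ((((((rl_wd _).mul (rl_wd _)).mul (rl_wd _)).mul (rl_wd _)).mul (rl_wd _)).eq rl_one (by decide +kernel))
theorem n3 (i j : Fin 5) (h : i < j) : (uu (gw i j)).1 • e 19 = e 19 ∧ (uu (gw i j)).1 • e 1 = e 1 ∧
    uu (gw i j) * uu (uw 0) * (uu (gw i j))⁻¹ = uu (uw i) ∧ uu (gw i j) * uu (uw 1) * (uu (gw i j))⁻¹ = uu (uw j) :=
  ⟨uu_fix 19 (by revert i j; decide +kernel), uu_fix 1 (by revert i j; decide +kernel),
    uu_conj (by revert i j; decide +kernel), uu_conj (by revert i j; decide +kernel)⟩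
theorem n4 : e 19 + (uu (uw 1)).1 • e 19 = (uu 3).1 • e 10 ∧
    (uu (uw 0)).1 • (uu 3).1 • e 10 + (uu 3).1 • e 10 = e 1 := by
  simp only [uu, ← vd_e19, ← vd_e10, ← vd_e1, rl_wd _ _, ← vd_xor]
  exact ⟨congrArg vd (by decide +kernel), congrArg vd (by decide +kernel)⟩
theorem n5 : (⟨t0, t0_mem⟩ * ⟨t0', t0'_mem⟩ * ⟨t0, t0_mem⟩ : U) = ⟨t0', t0'_mem⟩ * ⟨t0, t0_mem⟩ * ⟨t0', t0'_mem⟩ :=
  Subtype.ext (((rl_t0.mul rl_t0').mul rl_t0).eq ((rl_t0'.mul rl_t0).mul rl_t0') (by decide +kernel))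

/-- The data used in `²E₆(2)`. -/
structure Dt (D : Set G) (κ : U →* G) (σ : M → G) (m : G) : Prop where
  ct : CTRel κ (σ (e 19)) m
  act : ∀ u : U, ∀ x ∈ O, κ u * σ x * (κ u)⁻¹ = σ (u.1 • x)
  mul : ∀ x ∈ O, ∀ y ∈ O, y + x ∈ O → σ y * σ x = σ (y + x)
  comm : Commute (σ (e 19)) (σ (e 1))
  mem : ∀ x ∈ O, σ x ∈ D
  mm : m ∈ D
  sq : ∀ d ∈ D, d * d = 1
  ne : 1 ∉ D
  conj : ∀ d ∈ D, ∀ g, g * d * g⁻¹ ∈ D
  perf : ∀ d ∈ D, ∀ c, Commute c d → c ∈ ⁅centralizer {d}, centralizer {d}⁆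

attribute [local irreducible] t0 t0' uu

theorem Dt.lift {D : Set G} {κ : U →* G} {σ : M → G} {m₀ : G} (h : Dt D κ σ m₀) {s : Γ →* G}
    (hs : IsCentralExt s) (κ' : U →* Γ) (hκ : ∀ u, s (κ' u) = κ u) : ∃ p m, CTRel κ' p m ∧ s p = σ (e 19) := by
  have K : ∀ {y g : Γ}, s y ∈ D → Commute (s g) (s y) → Commute g y := fun a b => k1 hs (h.perf _ a _ b)
  have c := h.ct
  obtain ⟨p₁, hp⟩ := hs.1 (σ (e 19))
  obtain ⟨m₁, hm⟩ := hs.1 m₀
  have a2 : κ' ⟨t0, t0_mem⟩ * κ' ⟨t0, t0_mem⟩ = 1 := by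
    rw [← map_mul, ← map_one κ']; exact congrArg κ' (Subtype.ext t0_sq)
  have b2 : κ' ⟨t0', t0'_mem⟩ * κ' ⟨t0', t0'_mem⟩ = 1 := by
    rw [← map_mul, ← map_one κ']; exact congrArg κ' (Subtype.ext (Tv_sq t0'_Tv))
  have br := congrArg κ' n5
  have hl : ∀ i, κ' (uu (lw i)) * κ' ⟨t0, t0_mem⟩ * (κ' (uu (lw i)))⁻¹ = κ' (uu (uw i)) := fun i => by
    rw [← map_inv, ← map_mul, ← map_mul, (n1 i).2.2.1]
  have ha := hκ ⟨t0, t0_mem⟩
  have hb := hκ ⟨t0', t0'_mem⟩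
  simp only [map_mul] at br
  obtain ⟨a, ea⟩ : ∃ a, a = κ' ⟨t0, t0_mem⟩ := ⟨_, rfl⟩
  obtain ⟨b, eb⟩ : ∃ b, b = κ' ⟨t0', t0'_mem⟩ := ⟨_, rfl⟩
  obtain ⟨p, ep⟩ : ∃ p, p = ⁅b, ⁅p₁, a⁆⁆ := ⟨_, rfl⟩
  obtain ⟨m, em⟩ : ∃ m, m = ⁅a, ⁅m₁, b⁆⁆ := ⟨_, rfl⟩
  simp only [← ea, ← eb] at a2 b2 br hl ha hb
  have sp : s p = σ (e 19) := by simp only [ep, map_commutatorElement, ha, hb, hp, c.bP]
  have sm : s m = m₀ := by simp only [em, map_commutatorElement, ha, hb, hm, c.aN]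
  have bP : ⁅b, ⁅p, a⁆⁆ = p := by rw [commutatorElement_eq_of_map_eq s hs.2 (sp.trans hp.symm) rfl, ← ep]
  have aN : ⁅a, ⁅m, b⁆⁆ = m := by rw [commutatorElement_eq_of_map_eq s hs.2 (sm.trans hm.symm) rfl, ← em]
  have pD : s p ∈ D := sp ▸ h.mem _ mem19
  have mD : s m ∈ D := sm ▸ h.mm
  have pb : Commute p b := (K pD (by rw [hb, sp]; exact c.pb.symm)).symm
  have ma : Commute m a := (K mD (by rw [ha, sm]; exact c.ma.symm)).symm
  have p2 : p * p = 1 := by simpa only [bP] using sq_comm b2 (c := ⁅p, a⁆) (by rwa [bP])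
  have m2 : m * m = 1 := by simpa only [aN] using sq_comm a2 (c := ⁅m, b⁆) (by rwa [aN])
  have iv : ∀ {x y w : Γ}, x * x = 1 → w * x * w⁻¹ = y⁻¹ → w * x * w⁻¹ = y := fun {x y w} a b => by
    rw [← inv_inv y, ← b]; exact (inv_eq_of_mul_eq_one_right (by rw [conj_mul, a]; group)).symm
  have wP := iv p2 (br ▸ wconj pb bP)
  have wN := iv m2 (wconj ma aN)
  have PD : s ⁅p, a⁆ ∈ D := by rw [← wP, map_mul, map_mul _ _ p, map_inv]; exact h.conj _ pD _
  have ND : s ⁅m, b⁆ ∈ D := by rw [← wN, map_mul, map_mul _ _ m, map_inv]; exact h.conj _ mD _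
  have Pa : Commute ⁅p, a⁆ a := (K PD (by rw [map_commutatorElement, ha, sp]; exact c.Pa.symm)).symm
  have fp : ∀ u : U, u.1 • e 19 = e 19 → Commute (κ' u) p := fun u hu => K pD (by
    rw [hκ, sp]; exact mul_inv_eq_iff_eq_mul.1 (by rw [h.act u _ mem19, hu]))
  have lev : ∀ u : U, u.1 • e 0 = e 0 → u.1 • e 19 = e 19 → Commute p (κ' u) ∧ Commute m (κ' u) := fun u h1 h2 =>
    ⟨(fp u h2).symm, (K mD (by rw [hκ, sm]; exact (c.lev u h1 h2).2.symm)).symm⟩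
  have mP : ⁅m, ⁅p, a⁆⁆ = a := by
    have l := fun i => lev _ (n1 i).1 (n1 i).2.1
    have z : a⁻¹ * ⁅m, ⁅p, a⁆⁆ ∈ center Γ := hs.2 (by
      simp only [MonoidHom.mem_ker, map_mul, map_inv, map_commutatorElement, ha, sp, sm, c.mP, inv_mul_cancel])
    have o3 : (uu 3).1 • e 10 ∈ O := O_smul (uu 3).2 mem10
    have o1 : (uu (uw 1)).1 • e 19 ∈ O := O_smul (uu _).2 mem19
    have sy : s ⁅κ' (uu (uw 0)), ⁅p, κ' (uu (uw 1))⁆⁆ = σ (e 1) := by
      rw [map_commutatorElement, map_commutatorElement, hκ, hκ, sp, ← commutatorElement_inv _ (σ _),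
        commutatorElement_def _ (σ _), h.act _ _ mem19, mul_inv_rev, inv_inv,
        inv_eq_of_mul_eq_one_right (h.sq _ (h.mem _ o1)), h.mul _ o1 _ mem19 (by rw [n4.1]; exact o3), n4.1, commutatorElement_def,
        h.act _ _ o3, inv_eq_of_mul_eq_one_right (h.sq _ (h.mem _ o3)),
        h.mul _ o3 _ (O_smul (uu _).2 o3) (by rw [n4.2]; exact mem1), n4.2]
    have fy : ∀ u : U, u.1 • e 1 = e 1 → Commute (κ' u) ⁅κ' (uu (uw 0)), ⁅p, κ' (uu (uw 1))⁆⁆ := fun u hu =>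
      K (sy ▸ h.mem _ mem1) (by rw [hκ, sy]; exact mul_inv_eq_iff_eq_mul.1 (by rw [h.act u _ mem1, hu]))
    refine (inv_mul_eq_one.1 (zeta (p := p) (m := m) (A := fun i => κ' (uu (uw i))) (fun i => ?_) (by
      simp only [← map_mul, n2, map_one]) m2 (fun i => ?_) (fun i => ?_) (fun i => ?_) z (fun i j hij => ?_)
      (fun i => (fy _ (n1 i).2.2.2).symm) (K (sy ▸ h.mem _ mem1) (by rw [sy, sp]; exact h.comm)).symm)).symm
    · rw [← hl, conj_mul, a2]; group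
    · rw [← hl]; exact ((l i).2.mul_right ma).mul_right (l i).2.inv_right
    · rw [← hl, ← conj_eq (l i).1.symm, ← conjugate_commutatorElement, conj_commute]; exact Pa
    · rw [← hl, mul_assoc _ _ (a⁻¹ * _), mem_center_iff.1 z, ← mul_assoc, mul_assoc _ a (a⁻¹ * _), mul_inv_cancel_left,
        conjugate_commutatorElement, conjugate_commutatorElement, conj_eq (l i).1.symm, conj_eq (l i).2.symm]
    · obtain ⟨h1, h2, h3, h4⟩ := n3 i j hij
      rw [← conj_eq (fy _ h2), conjugate_commutatorElement, conjugate_commutatorElement, conj_eq (fp _ h1),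
        ← map_inv, ← map_mul, ← map_mul, ← map_mul, ← map_mul, h3, h4]
  have w2 : a * b * a * (a * b * a) = 1 := by
    rw [show a * b * a * (a * b * a) = a * (b * (a * a) * b) * a by group, a2, mul_one, b2, mul_one, a2]
  have pN : ⁅p, ⁅m, b⁆⁆ = b := by
    have : a * b * a * ⁅m, ⁅p, a⁆⁆ * (a * b * a)⁻¹ = a * b * a * a * (a * b * a)⁻¹ := by rw [mP]
    rw [conjugate_commutatorElement, wN, ← wP, ← mul_assoc, ← mul_assoc, w2, mul_assoc, ← mul_inv_rev, w2, one_mul, inv_one, mul_one] at this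
    rw [← commutatorElement_inv, this, br, mul_assoc b a b, mul_assoc b _ a, br,
      mul_assoc b a b, mul_inv_cancel_right, inv_eq_of_mul_eq_one_right b2]
  refine ⟨p, m, ?_, sp⟩
  subst ea eb
  exact ⟨p2, m2, lev, pb, ma, (K pD (by rw [map_commutatorElement, ha, sp]; exact c.Pp)), Pa,
    K mD (by rw [map_commutatorElement, hb, sm]; exact c.Nm),
    (K ND (by rw [map_commutatorElement, hb, sm]; exact c.Nb.symm)).symm, bP, aN, pN, mP⟩

end H75.E6M
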