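/- An element of order 7 of `SL₇(3)` commutes with at most one involution; `Ω₇(3)` has trivial centre. -/
import Cfsg.Agent.H53.JO

set_option autoImplicit false
open Cfsg Module LinearMap

namespace H75.O7
variable {V : Type*} [AddCommGroup V] [Module (ZMod 3) V] [Finite V]

theorem fixmod {p : End (ZMod 3) V} (hp : p ^ 7 = 1) (W : Submodule (ZMod 3) V) (hW : ∀ x ∈ W, p x ∈ W) :
    3 ^ finrank (ZMod 3) W ≡ 3 ^ finrank (ZMod 3) (W ⊓ ker (p - 1) : Submodule _ _) [MOD 7] := by
  have := Fact.mk (by norm_num : Nat.Prime 7)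
  have := Fintype.ofFinite W
  classical
  let f : Function.End W := fun x => ⟨p x, hW x x.2⟩
  have k : ∀ n (x : W), ((f ^ n) x).1 = (p ^ n) x := fun n => by
    induction n with
    | zero => exact fun _ => rfl
    | succ n ih => exact fun x => by rw [pow_succ', pow_succ']; exact congrArg p (ih x)
  have h := Equiv.Perm.card_fixedPoints_modEq (f := f) (p := 7) (n := 1)
    (funext fun x => Subtype.ext (by rw [k, pow_one, hp]; rfl))
  have c : ∀ U : Submodule (ZMod 3) V, Nat.card U = 3 ^ finrank (ZMod 3) U := fun U => by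
    rw [Module.natCard_eq_pow_finrank (K := ZMod 3), Nat.card_zmod]
  rw [← Nat.card_eq_fintype_card, ← Nat.card_eq_fintype_card, c] at h
  rwa [← c (W ⊓ _), Nat.card_congr (α := (W ⊓ ker (p - 1) : Submodule _ _)) (β := Function.fixedPoints f)
    ⟨fun x => ⟨⟨x, x.2.1⟩, Subtype.ext (sub_eq_zero.1 (show p x - x = 0 from mem_ker.1 x.2.2))⟩,
      fun x => ⟨x.1, x.1.2, mem_ker.2 (show p x.1 - x.1 = 0 from sub_eq_zero.2 (congrArg Subtype.val x.2))⟩,
      fun _ => rfl, fun _ => rfl⟩]

theorem invol (hV : finrank (ZMod 3) V = 7) {p u : End (ZMod 3) V} (hp : p ^ 7 = 1) (p1 : p ≠ 1) (hu : u * u = 1)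
    (u1 : u ≠ 1) (c : p * u = u * p) (d : u.det = 1) :
    (∀ x ∈ ker (p - 1), u x = x) ∧ (∀ x ∈ range (p - 1), u x = -x) ∧ ker (p - 1) ⊔ range (p - 1) = ⊤ := by
  have uu : ∀ x, u (u x) = x := fun x => DFunLike.congr_fun hu x
  have pu : ∀ x, p (u x) = u (p x) := fun x => DFunLike.congr_fun c x
  have m : ∀ x, x ∈ ker (u + 1) ↔ u x = -x := fun x => by simp [add_eq_zero_iff_eq_neg]
  have m2 : ∀ x, u x - x ∈ ker (u + 1) := fun x => by rw [m, map_sub, uu, neg_sub]
  have hW : ∀ x ∈ ker (u + 1), p x ∈ ker (u + 1) := fun x hx => by rw [m, ← pu, (m x).1 hx, map_neg]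
  have hL : finrank (ZMod 3) (ker (p - 1)) = 1 := by
    have a := fixmod hp ⊤ fun _ _ => trivial
    have b := Submodule.finrank_lt (s := ker (p - 1)) fun e => p1 (sub_eq_zero.1 (ker_eq_top.1 e))
    rw [top_inf_eq, finrank_top, hV] at a
    rw [hV] at b
    generalize finrank (ZMod 3) (ker (p - 1)) = n at a b ⊢
    interval_cases n <;> first | rfl | exact absurd a (by decide)
  have he : ker (u + 1) ≤ (ker (u + 1)).comap u := fun x hx => by
    rw [Submodule.mem_comap, (m x).1 hx]; exact neg_mem hx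
  have e1 : (-1 : ZMod 3) ^ finrank (ZMod 3) (ker (u + 1)) = 1 := by
    rw [det_eq_det_mul_det _ u he, show u.restrict he = (-1 : ZMod 3) • .id from
      ext fun x => Subtype.ext (by simpa using (m x).1 x.2), show Submodule.mapQ _ _ u he = .id from
      Submodule.linearMap_qext _ (ext fun x => (Submodule.Quotient.eq _).2 (m2 x))] at d
    simpa using d
  obtain ⟨a, b⟩ : finrank (ZMod 3) (ker (u + 1)) = 6 ∧
      finrank (ZMod 3) (ker (u + 1) ⊓ ker (p - 1) : Submodule _ _) = 0 := by
    have a := fixmod hp _ hW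
    have b := (Submodule.finrank_le (ker (u + 1))).trans hV.le
    have c := (Submodule.finrank_mono (inf_le_right : ker (u + 1) ⊓ ker (p - 1) ≤ _)).trans hL.le
    have e : finrank (ZMod 3) (ker (u + 1)) ≠ 0 := fun e => u1 (ext fun x =>
      sub_eq_zero.1 ((Submodule.finrank_eq_zero.1 e).le (m2 x)))
    generalize finrank (ZMod 3) (ker (u + 1) ⊓ ker (p - 1) : Submodule _ _) = k at a c ⊢
    generalize finrank (ZMod 3) (ker (u + 1)) = n at a b e e1 ⊢
    interval_cases n <;> interval_cases k <;>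
      first | exact ⟨rfl, rfl⟩ | exact absurd a (by decide) | exact absurd e1 (by decide) | exact absurd rfl e
  have b' := Submodule.finrank_eq_zero.1 b
  have r : ker (u + 1) = range (p - 1) := Submodule.eq_of_le_of_finrank_eq (fun x hx => by
    obtain ⟨y, e⟩ := Finite.surjective_of_injective (f := (p - 1).restrict fun x hx => sub_mem (hW x hx) hx)
      ((injective_iff_map_eq_zero _).2 fun y e => Subtype.ext (b'.le ⟨y.2, congrArg Subtype.val e⟩)) ⟨x, hx⟩
    exact ⟨y, congrArg Subtype.val e⟩) (by have := finrank_range_add_finrank_ker (p - 1); omega)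
  refine ⟨fun x hx => sub_eq_zero.1 (b'.le ⟨m2 x, sub_mem ?_ hx⟩), fun x hx => (m x).1 (r.ge hx),
    Submodule.eq_top_of_finrank_eq ?_⟩
  · rw [mem_ker, LinearMap.sub_apply, pu, sub_eq_zero.1 (show p x - x = 0 from hx)]; simp
  · have := Submodule.finrank_sup_add_finrank_inf_eq (ker (p - 1)) (range (p - 1))
    rw [← r, inf_comm] at this
    rw [← r]; omega

/-- an element of order 7 commutes with at most one involution -/
def U7 (G : Type*) [Group G] : Prop := ∀ p u u' : G, orderOf p = 7 → orderOf u = 2 → orderOf u' = 2 →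
  Commute p u → Commute p u' → u = u'
theorem U7.of_inj {G H : Type*} [Group G] [Group H] (f : G →* H) (i : Function.Injective f) (h : U7 H) : U7 G :=
  fun p u u' a b c d e => i (h (f p) _ _ (by rwa [orderOf_injective f i]) (by rwa [orderOf_injective f i])
    (by rwa [orderOf_injective f i]) (d.map f) (e.map f))
theorem det_Om {ι : Type} [Fintype ι] [DecidableEq ι] {F : Type*} [Field F] {q : (ι → F) → F} (g : Omega F q) :
    ((g.1 : GL ι F) : Matrix ι ι F).det = 1 :=
  congrArg Units.val (Abelianization.commutator_subset_ker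
    (Matrix.GeneralLinearGroup.det.comp (isometryGroup F q).subtype) g.2)
theorem u7 : U7 (Omega (ZMod 3) (quadFormOdd 3 (ZMod 3))) := fun p u u' a b c d e => by
  let φ : Omega (ZMod 3) (quadFormOdd 3 (ZMod 3)) →* End (ZMod 3) _ :=
    (Matrix.toLinAlgEquiv'.toAlgHom.toRingHom.toMonoidHom.comp (Units.coeHom _)).comp
      ((Subgroup.subtype _).comp (Subgroup.subtype _))
  have i : Function.Injective φ := (Matrix.toLinAlgEquiv'.injective.comp Units.val_injective).comp
    (Subtype.val_injective.comp Subtype.val_injective)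
  have k : ∀ u, orderOf u = 2 → Commute p u → _ := fun u b d => invol (p := φ p) (u := φ u) (by simp)
    (by rw [← map_pow, ← a, pow_orderOf_eq_one, map_one]) (fun e => by simp [i (e.trans (map_one φ).symm)] at a)
    (by rw [← map_mul, ← sq, ← b, pow_orderOf_eq_one, map_one]) (fun e => by simp [i (e.trans (map_one φ).symm)] at b)
    (d.map φ) ((det_toLin' _).trans (det_Om u))
  obtain ⟨a1, a2, a3⟩ := k u b d
  obtain ⟨b1, b2, -⟩ := k u' c e
  refine i (ext fun x => ?_)
  obtain ⟨y, hy, z, hz, rfl⟩ := Submodule.mem_sup.1 (a3.ge (Submodule.mem_top (x := x)))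
  rw [map_add, map_add, a1 y hy, a2 z hz, b1 y hy, b2 z hz]
theorem cen : Subgroup.center (Omega (ZMod 3) (quadFormOdd 3 (ZMod 3))) = ⊥ := eq_bot_iff.2 fun g h => by
  obtain ⟨c, e⟩ := (H53.mem_center_Omega_iff (H58.coe_qOdd 3 _) (H58.qOdd_nondeg 3 (by decide))
    (H56.not_isExc_of_two_ne (by decide)) (by simp) g).1 h
  have d := det_Om g
  rw [e, Matrix.det_smul, Matrix.det_one, mul_one] at d
  obtain rfl : c = 1 := (by decide : ∀ c : ZMod 3, c ^ 7 = 1 → c = 1) c (by simpa using d)
  exact Subtype.ext (Subtype.ext (Units.ext (e.trans (one_smul _ _))))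
noncomputable def pom : POmega (ZMod 3) (quadFormOdd 3 (ZMod 3)) ≃* Omega (ZMod 3) (quadFormOdd 3 (ZMod 3)) :=
  (QuotientGroup.quotientMulEquivOfEq cen).trans QuotientGroup.quotientBot

end H75.O7
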