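/- STD-2E6 (row S3327), slot BR: the automorphism group of `X = ²E₆(q)`. -/
import Cfsg.Agent.H78.TEDef
import Cfsg.Agent.H48.SgTy

set_option autoImplicit false
set_option linter.unusedSectionVars false

namespace H75.TEBR

open Cfsg.Lie H63 H65 H64 H64.SG H68 H46.SF Subgroup H78.TE

theorem map_O2 {A B : Type*} [Group A] [Group B] (c : ∀ a b : B, a * b = b * a) (f : A →* B) {a : A}
    (ha : a ∈ O2 (⊤ : Subgroup A)) (h2 : Is2 (f a)) : f a = 1 := by
  refine h2.eq_one ?_
  clear h2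
  induction ha using closure_induction with
  | mem g hg => exact hg.2.of_dvd_nat (orderOf_map_dvd f g)
  | one => simp
  | mul g h _ _ h1 h2 => rw [map_mul]; exact odd_orderOf_mul h1 h2 (c _ _)
  | inv g _ h1 => rwa [map_inv, orderOf_inv]

theorem card_le_syl {G : Type*} [Group G] [Finite G] {U P : Subgroup G} (h : Syl U ⊤) (hP : IsPGroup 2 P) :
    Nat.card P ≤ Nat.card U := by
  obtain ⟨k, hk⟩ := IsPGroup.iff_card.1 hP
  have o := h.2.2
  rw [relIndex_top_right] at o
  have := P.card_subgroup_dvd_card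
  rw [← U.card_mul_index, hk] at this
  rw [hk]
  exact Nat.le_of_dvd Nat.card_pos
    ((Nat.Coprime.pow_left k (Nat.coprime_two_left.2 o)).dvd_of_dvd_mul_right this)

theorem gn_gn : ∀ i, gn (gn i) = i := by decide +kernel

variable {F K : Type} [Field F] [Finite F] [CharP F 2] [Field K] [Finite K] [CharP K 2] {T : Qd F K}

theorem aut_comm (a b : RingAut K) : a * b = b * a :=
  have := isCyclic_ringAut K
  (IsCyclic.commutative (α := RingAut K)).is_comm.comm a b

theorem card_aut (T : Qd F K) : Nat.card (RingAut K) ≤ Nat.card F := by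
  have := Fintype.ofFinite F
  obtain ⟨n, -, hn⟩ := FiniteField.card F 2
  rw [← Nat.card_eq_fintype_card] at hn
  rw [card_ringAut 2 (n * 2) (by rw [T.card, hn, pow_mul]), hn]
  obtain ⟨m, hm⟩ := Nat.exists_eq_succ_of_ne_zero n.ne_zero
  have := Nat.lt_two_pow_self (n := m)
  rw [hm, pow_succ]
  omega

theorem chr_gm {d : Fin E6.rank → Kˣ} (h : ∀ i, (d (gn i) : K) = T.σ (d i)) (r : Rt E6) :
    (chr E6 d (gm r) : K) = T.σ (chr E6 d r) := by
  rw [chr_val, chr_val, Units.coe_prod, Units.coe_prod, map_prod]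
  refine Fintype.prod_bijective gn (Function.Involutive.bijective gn_gn) _ _ fun i => ?_
  rw [← cf_eq, ← cf_eq, cf_gm, Units.val_zpow_eq_zpow_val, Units.val_zpow_eq_zpow_val, map_zpow₀, ← h, gn_gn]

theorem aut_ext {α β : MulAut (YY K)} (h : ∀ (r : Rt E6) a, α (xG E6 K r a) = β (xG E6 K r a)) : α = β :=
  MulEquiv.toMonoidHom_injective (hom_ext_xG fun r hr => h ⟨r, hr⟩)

theorem std_comm {d : Fin E6.rank → Kˣ} (h : ∀ i, (d (gn i) : K) = T.σ (d i)) (τ : RingAut K) :
    diagAut E6 d * fieldAut E6 τ * T.ph = T.ph * (diagAut E6 d * fieldAut E6 τ) := aut_ext fun r a => by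
  simp only [MulAut.mul_apply, T.ph_x, fieldAut_xG, diagAut_xG]
  rw [chr_gm h, map_mul]
  exact congrArg (fun b => xG E6 K (gm r) (_ * b)) (DFunLike.congr_fun (aut_comm τ T.σ) a)

theorem res (α : MulAut (YY K)) (h : α * T.ph = T.ph * α) : ∃ β, T.Ext β α := by
  have k : ∀ {α : MulAut (YY K)}, α * T.ph = T.ph * α → ∀ g : T.X, α g ∈ fx T.ph := fun {α} h g => by
    rw [mem_fx, ← MulAut.mul_apply, ← h, MulAut.mul_apply, mem_fx.1 g.2]
  exact ⟨{ toFun := fun g => ⟨α g, k h g⟩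
           invFun := fun g => ⟨α⁻¹ g, k (Commute.inv_left h) g⟩
           left_inv := fun g => Subtype.ext (α.symm_apply_apply g)
           right_inv := fun g => Subtype.ext (α.apply_symm_apply g)
           map_mul' := fun g g' => Subtype.ext (map_mul α _ _) }, fun _ => rfl⟩

theorem ext_mul {β β' : MulAut T.X} {α α' : MulAut (YY K)} (h : T.Ext β α) (h' : T.Ext β' α') :
    T.Ext (β * β') (α * α') := fun g => by rw [MulAut.mul_apply, MulAut.mul_apply, h, h']

theorem ext_pow {β : MulAut T.X} {α : MulAut (YY K)} (h : T.Ext β α) (n : ℕ) : T.Ext (β ^ n) (α ^ n) := by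
  induction n with
  | zero => exact fun _ => rfl
  | succ n ih => rw [pow_succ, pow_succ]; exact ext_mul ih h

theorem ext_conj (g : T.X) : T.Ext (MulAut.conj g) (MulAut.conj (g : YY K)) := fun _ => rfl

theorem ext_of {β : MulAut T.X} {α : MulAut (YY K)} {g : T.X} (h : T.Ext (MulAut.conj g * β) α) :
    T.Ext β (MulAut.conj (g : YY K)⁻¹ * α) := by
  have := ext_mul (ext_conj g⁻¹) h
  rwa [← mul_assoc, ← map_mul, inv_mul_cancel, map_one, one_mul] at this

theorem conj_comm (g : T.X) : MulAut.conj (g : YY K) * T.ph = T.ph * MulAut.conj (g : YY K) :=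
  MulEquiv.ext fun y => by
    simp only [MulAut.mul_apply, MulAut.conj_apply, map_mul, map_inv, mem_fx.1 g.2]

theorem act {β : MulAut T.X} {d : Fin E6.rank → Kˣ} {τ : RingAut K} (h : T.Sd β d τ) (r : Rt E6) (u : K) :
    β (T.xs r u) = T.xs r (chr E6 d r * τ u) := Subtype.ext (by
  rw [h.2, T.xs_val, T.xs_val, map_mul]
  simp only [MulAut.mul_apply, fieldAut_xG, diagAut_xG]
  rw [chr_gm h.1, map_mul, show τ (T.σ u) = T.σ (τ u) from DFunLike.congr_fun (aut_comm τ T.σ) u])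

section
variable (t : Ty E6 K)

theorem ty_std (g : YY K) (d : Fin E6.rank → Kˣ) (τ : RingAut K) :
    t.fl (MulAut.conj g⁻¹ * (diagAut E6 d * fieldAut E6 τ)) = τ ∧
      t.gr (MulAut.conj g⁻¹ * (diagAut E6 d * fieldAut E6 τ)) = 1 :=
  (t.spec _ g id d τ (by
    rw [← mul_assoc, ← map_mul, mul_inv_cancel, map_one, one_mul]; exact dat_diag_field d τ)).imp_right
    fun e => e.2 rfl

theorem ty_conj (g : YY K) : t.fl (MulAut.conj g) = 1 ∧ t.gr (MulAut.conj g) = 1 := by
  simpa using ty_std t g⁻¹ 1 1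

theorem gr_ph (T : Qd F K) : t.gr T.ph ≠ 1 := fun e => by
  have h : DT E6 K (MulAut.conj 1 * T.ph) gn 1 T.σ := (H48.SgTy.dat_iff e6).2 fun i a => by
    have h1 := T.ph_x (simpleR i) a
    have h2 := T.ph_x (negR (simpleR i)) a
    rw [← ng_eq, gm_ng, ng_eq, ng_eq] at h2
    rw [gm_simple] at h1 h2
    simpa using ⟨h1, h2⟩
  exact absurd ((t.spec _ _ _ _ _ h).2.1 e) (by decide +kernel)

theorem fl_eq (cy : T.CY) {β : MulAut T.X} {α α' : MulAut (YY K)} (h : T.Ext β α) (h' : T.Ext β α')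
    (e : t.gr α = 1) (e' : t.gr α' = 1) : t.fl α = t.fl α' := by
  obtain ⟨ζ, -, k | k⟩ := cy (α⁻¹ * α') fun g _ => by
    rw [MulAut.mul_apply, ← h', h, MulAut.inv_apply_self]
  · rw [← inv_mul_eq_one, ← map_inv, ← map_mul, k, (ty_conj t ζ).1]
  · have := congrArg t.gr k
    rw [map_mul, map_mul, map_inv, e, e', (ty_conj t ζ).2, inv_one, one_mul, one_mul] at this
    exact absurd this.symm (gr_ph t T)

end

theorem exists_fl (tc : T.TC) (cy : T.CY) : ∃ fl : MulAut T.X →* RingAut K,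
    (∀ β g d τ, T.Sd (MulAut.conj g * β) d τ → fl β = τ) ∧ ∀ β, fl β = 1 → Is2 β → ∃ g, β = MulAut.conj g := by
  obtain ⟨t⟩ := H48.SgTy.jobTy E6 e6 K
  have ex : ∀ β : MulAut T.X, ∃ α, T.Ext β α ∧ t.gr α = 1 := fun β =>
    let ⟨g, d, τ, h⟩ := tc.ex β
    ⟨_, ext_of h.2, (ty_std t _ d τ).2⟩
  choose a h1 h2 using ex
  have sp : ∀ β g d τ, T.Sd (MulAut.conj g * β) d τ → t.fl (a β) = τ := fun β g d τ h =>
    (fl_eq t cy (h1 β) (ext_of h.2) (h2 β) (ty_std t _ d τ).2).trans (ty_std t _ d τ).1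
  refine ⟨MonoidHom.mk' (fun β => t.fl (a β)) fun β β' => ?_, sp, fun β e i2 => ?_⟩
  · rw [← map_mul]
    exact fl_eq t cy (h1 _) (ext_mul (h1 β) (h1 β')) (h2 _) (by rw [map_mul, h2, h2, one_mul])
  · obtain ⟨g, d, τ, h⟩ := tc.ex β
    obtain rfl : τ = 1 := (sp β g d τ h).symm.trans e
    have h3 := ext_pow h.2 (Nat.card Kˣ)
    rw [map_one, mul_one, ← map_pow, show d ^ Nat.card Kˣ = 1 from funext fun i => pow_card_eq_one',
      map_one] at h3
    have h4 : (MulAut.conj g * β) ^ Nat.card Kˣ = 1 := MulEquiv.ext fun x => Subtype.ext (h3 x)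
    have h5 : (QuotientGroup.mk (β ^ Nat.card Kˣ) : Cfsg.Out T.X) = 1 := by
      rw [QuotientGroup.mk_pow, ← H48.SgTy.mk_conj_mul g β, ← QuotientGroup.mk_pow, h4, QuotientGroup.mk_one]
    obtain ⟨g', hg'⟩ := (QuotientGroup.eq_one_iff _).1 h5
    obtain ⟨j, hj⟩ := i2.exists_pow (H48.SgTy.odd_card (F := K))
    exact ⟨g' ^ j, by rw [map_pow, hg', hj]⟩

theorem jobBR : JobBR := by
  intro F K _ _ _ _ _ _ T kb tb tc cy
  obtain ⟨fl, f1, f2⟩ := exists_fl tc cy
  refine ⟨fun β => ?_, res, fun d τ h => (res _ (std_comm h τ)).imp fun β k => ⟨h, k⟩, fun β d τ h => act h,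
    ⟨fl, f1, f2⟩, fun B hB => ?_, fun β h i2 => f2 β (map_O2 aut_comm fl h (i2.map fl)) i2⟩
  · obtain ⟨g, d, τ, h⟩ := tc.ex β
    exact ⟨_, ext_of h.2, Commute.mul_left (conj_comm g⁻¹) (std_comm h.1 τ)⟩
  · have inj : Function.Injective (MulAut.conj : T.X →* MulAut T.X) := (injective_iff_map_eq_one _).2 tb.cen
    have hP : IsPGroup 2 (B.comap (MulAut.conj : T.X →* MulAut T.X)) := hB.comap_of_injective _ inj
    have h1 : Nat.card (B ⊓ fl.ker : Subgroup _) ≤ Nat.card F ^ 36 := by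
      have le : B ⊓ fl.ker ≤ (B.comap (MulAut.conj : T.X →* MulAut T.X)).map MulAut.conj := fun β h => by
        obtain ⟨g, rfl⟩ := f2 β h.2 (isPGroup_iff_is2.1 hB β h.1)
        exact ⟨g, h.1, rfl⟩
      refine (card_le_of_le le).trans ?_
      rw [card_map_of_injective inj]
      refine (card_le_syl tb.syl hP).trans ?_
      rw [kb.card SU (by decide +kernel), show (Finset.univ.filter (· ∈ SU)).card = 36 by decide +kernel]
    have h2 : fl.ker.relIndex B ≤ Nat.card F := by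
      rw [relIndex_ker]
      exact (card_le_card_group _).trans (card_aut T)
    have h3 := (fl.ker.subgroupOf B).card_mul_index
    rw [← inf_subgroupOf_left, Nat.card_congr (subgroupOfEquivOfLe inf_le_left).toEquiv,
      inf_subgroupOf_left] at h3
    rw [← h3, pow_succ]
    exact Nat.mul_le_mul h1 h2

end H75.TEBR
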