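/- STD-2E6 (row S3327), slot M2: Steinberg's relations of `E₆(K)` from the family `M`. -/
import Cfsg.Agent.H78.TESpec
import Cfsg.Agent.H64.SGAsm

set_option autoImplicit false
set_option linter.unusedSectionVars false

namespace H75.TEM2

open Cfsg.Lie H63 H65 H64 H64.SG H68 H46.SF Subgroup H78.TE

universe u

theorem tB : ∀ r s : Rt E6, ip r s = -1 → 0 ≤ ip r (gm s) →
    (0 ≤ ip r (su r s) ∧ 0 ≤ ip r (gm (su r s))) ∧ 0 ≤ ip s (su r s) ∧ 0 ≤ ip s (gm (su r s)) := by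
  decide +kernel

theorem tC : ∀ r s : Rt E6, ip r s = -1 → 0 ≤ ip r (gm s) ∨ gm r = r ∨ gm s = s := by
  decide +kernel

theorem tD : ∀ (r : Rt D4) (s : Rt E6), ip (lr r) s = -1 → gm s ≠ s →
    ∃ v : Rt D4, lr v = su (su (lr r) s) (gm s) ∧ ip s (gm (su (lr r) s)) = -1 ∧
      0 ≤ ip s (su (lr r) s) ∧ su s (gm (su (lr r) s)) = lr v ∧ 0 ≤ ip (lr v) s ∧
      0 ≤ ip (lr v) (su (lr r) s) ∧ 0 ≤ ip (lr r) (su (lr r) s) := by
  decide +kernel

set_option synthInstance.maxSize 1000 in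
theorem tE : ∀ r s : Rt E6, 0 ≤ ip r s → 0 ≤ ip r (gm s) ∨ ip r (gm s) = -1 ∨
    ∃ p q : Rt E6, ip p q = -1 ∧ su p q = r ∧ (0 ≤ ip p s ∧ ip p (gm s) = -1) ∧
      0 ≤ ip q s ∧ ip q (gm s) = -1 := by
  decide +kernel

theorem tF : ∀ (r : Rt D4) (s : Rt E6), ip (lr r) (gm s) = ip (lr r) s := by decide +kernel

theorem tG : ∀ r s : Rt D4, ip (lr r) (lr s) = -1 → ∃ v : Rt D4, lr v = su (lr r) (lr s) := by
  decide +kernel

variable {F K : Type} [Field F] [Field K] [CharP K 2] {T : Qd F K} {G : Type u} [Group G]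
  {e : T.X →* G} {t : G} {y : ℕ → K → G} {M : Rt E6 → K → K → G}

/-- the root elements of `E₆(K)` -/
def yy (T : Qd F K) (M : Rt E6 → K → K → G) (w : K) (r : Rt E6) (b : K) : G :=
  M r (b * T.σ w) 1 * M r b w

/-- normal form -/
def PP (M : Rt E6 → K → K → G) (w : K) (r : Rt E6) (a b : K) : G := M r a 1 * M r b w

section
variable (h : T.MM e t y M) {w : K} (hw : w + T.σ w = 1)
include h

theorem cc (r : Rt E6) (a u b v : K) : M r a u * M r b v = M r b v * M r a u :=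
  h.c0 r r (by rw [ip_self]; omega) (ip_gm_nonneg r) a u b v

theorem M0 (r : Rt E6) (u : K) : M r 0 u = 1 := by
  have := h.addl r 0 0 u
  rwa [add_zero, mul_eq_left] at this

theorem PP_mul (r : Rt E6) (a b a' b' : K) :
    PP M w r a b * PP M w r a' b' = PP M w r (a + a') (b + b') := by
  rw [PP, PP, PP, ← h.addl, ← h.addl, mul_assoc, mul_assoc, ← mul_assoc (M r b w), cc h r b w,
    mul_assoc]

theorem PP_zero (r : Rt E6) : PP M w r 0 0 = 1 := by rw [PP, M0 h, M0 h, mul_one]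

theorem yy_add (r : Rt E6) (a b : K) : yy T M w r a * yy T M w r b = yy T M w r (a + b) := by
  change PP M w r _ _ * PP M w r _ _ = PP M w r _ _
  rw [PP_mul h, add_mul]

theorem yy_zero (r : Rt E6) : yy T M w r 0 = 1 := by
  rw [yy, zero_mul, M0 h, M0 h, mul_one]

theorem yy_inv (r : Rt E6) (a : K) : (yy T M w r a)⁻¹ = yy T M w r a :=
  inv_eq_of_mul_eq_one_right (by rw [yy_add h, CharTwo.add_self_eq_zero, yy_zero h])

/-- commuting families -/
theorem c0P {r s : Rt E6} (h1 : 0 ≤ ip r s) (h2 : 0 ≤ ip r (gm s)) (a b c d : K) :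
    Commute (PP M w r a b) (PP M w s c d) :=
  Commute.mul_left (Commute.mul_right (h.c0 r s h1 h2 _ _ _ _) (h.c0 r s h1 h2 _ _ _ _))
    (Commute.mul_right (h.c0 r s h1 h2 _ _ _ _) (h.c0 r s h1 h2 _ _ _ _))

include hw

omit h in
theorem sw : T.σ w = 1 + w := by
  have : (2 : K) = 0 := CharTwo.two_eq_zero
  linear_combination hw - w * this

theorem yy_gm (r : Rt E6) (b : K) : yy T M w (gm r) b = PP M w r (b * w) b := by
  have : (2 : K) = 0 := CharTwo.two_eq_zero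
  rw [yy, h.gm, h.gm, map_one, sw hw, ← h.addr, ← mul_assoc, h.addl, PP]
  congr 2
  linear_combination b * this

theorem M_PP (r : Rt E6) (a u : K) :
    M r a u = PP M w r (a * (u * T.σ w + T.σ u * w)) (a * (u + T.σ u)) := by
  have h2 : (2 : K) = 0 := CharTwo.two_eq_zero
  obtain ⟨d, hd⟩ := T.exists_tr u
  obtain ⟨c, hc⟩ := T.exists_tr (u * T.σ w)
  rw [map_mul, T.ss] at hc
  rw [← hc, ← hd, PP, mul_comm a, mul_comm a, h.bal, h.bal, h.addr, hc, hd]
  congr 1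
  linear_combination (-u) * hw - (T.σ u * w) * h2

theorem yy_lr (hs : St D4 y) (r : Rt D4) (b : K) : yy T M w (lr r) b = y r b := by
  rw [yy, h.lng, h.lng, hw, map_one, CharTwo.add_self_eq_zero, mul_zero, hs.x_zero, one_mul, mul_one]

theorem M_yy (r : Rt E6) (a u : K) :
    M r a u = yy T M w r (a * u) * yy T M w (gm r) (a * T.σ u) := by
  rw [yy_gm h hw, M_PP h hw]
  change _ = PP M w r _ _ * _
  rw [PP_mul h]
  congr 1 <;> ring

theorem csP {r s : Rt E6} (h1 : ip r s = -1) (h2 : 0 ≤ ip r (gm s)) (a b c d : K) :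
    PP M w r a b * PP M w s c d * (PP M w r a b)⁻¹ = PP M w s c d *
      PP M w (su r s) (a * c + b * d * (w * T.σ w)) (a * d + b * c + b * d) := by
  obtain ⟨⟨k1, k2⟩, k3, k4⟩ := tB r s h1 h2
  have h2' : (2 : K) = 0 := CharTwo.two_eq_zero
  have one : ∀ a u, M r a u * PP M w s c d * (M r a u)⁻¹ =
      PP M w s c d * (M (su r s) (a * c) u * M (su r s) (a * d) (u * w)) := fun a u => by
    rw [PP, ← conj_mul, h.cs r s h1 h2, h.cs r s h1 h2, mul_one, mul_assoc, mul_assoc,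
      ← mul_assoc (M (su r s) _ _), ← h.c0 s _ k3 k4, mul_assoc]
  have two : ∀ a u a' u', M r a u * M (su r s) a' u' * (M r a u)⁻¹ = M (su r s) a' u' :=
    fun a u a' u' => by rw [h.c0 r _ k1 k2, mul_inv_cancel_right]
  have : PP M w r a b * PP M w s c d * (PP M w r a b)⁻¹ =
      M r a 1 * (M r b w * PP M w s c d * (M r b w)⁻¹) * (M r a 1)⁻¹ := by rw [PP]; group
  rw [this, one, ← conj_mul, ← conj_mul, one, two, two, mul_assoc, M_PP h hw _ (a * c),
    M_PP h hw _ (a * d), M_PP h hw _ (b * c), M_PP h hw _ (b * d), PP_mul h, PP_mul h, PP_mul h]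
  simp only [map_mul, map_one, sw hw]
  congr 2
  · linear_combination (a * c * w + a * d * (w + w ^ 2) + b * c * (w + w ^ 2) +
      b * d * (w ^ 2 + w ^ 3)) * h2'
  · linear_combination (a * c + a * d * w + b * c * w + b * d * (w + w ^ 2)) * h2'

theorem c1 {r s : Rt E6} (h1 : 0 ≤ ip r s) (h2 : 0 ≤ ip r (gm s) ∨ ip r (gm s) = -1) (a b : K) :
    Commute (yy T M w r a) (yy T M w s b) := by
  rcases h2 with h2 | h2
  · exact c0P h h1 h2 _ _ _ _
  have h2' : (2 : K) = 0 := CharTwo.two_eq_zero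
  have := csP h hw h2 (by rwa [gm_gm]) (a * T.σ w) a (b * w) b
  rw [← yy_gm h hw, gm_gm, show a * T.σ w * (b * w) + a * b * (w * T.σ w) = 0 by
      linear_combination (a * b * w * T.σ w) * h2',
    show a * T.σ w * b + a * (b * w) + a * b = 0 by linear_combination (a * b) * hw + a * b * h2',
    PP_zero h, mul_one] at this
  exact mul_inv_eq_iff_eq_mul.1 this

theorem cy (hs : St D4 y) {r : Rt D4} {s : Rt E6} (h1 : 0 ≤ ip (lr r) s) (a b u : K) :
    Commute (y r a) (M s b u) := by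
  have := h.c0 _ s h1 (by rwa [tF]) a w b u
  rwa [h.lng, hw, mul_one] at this

theorem cl (hs : St D4 y) {r : Rt D4} {s : Rt E6} (h1 : ip (lr r) s = -1) (h2 : gm s ≠ s) (a b : K) :
    yy T M w s a * y r b * (yy T M w s a)⁻¹ * (y r b)⁻¹ = yy T M w (su (lr r) s) (a * b) := by
  obtain ⟨v, k1, k2, k3, k4, k5, k6, k7⟩ := tD r s h1 h2
  have h2' : (2 : K) = 0 := CharTwo.two_eq_zero
  have : yy T M w s a * y r b * (yy T M w s a)⁻¹ =
      M s (a * T.σ w) 1 * (M s a w * y r b * (M s a w)⁻¹) * (M s (a * T.σ w) 1)⁻¹ := by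
    rw [yy]; group
  have e1 := h.cs s _ k2 (by rwa [gm_gm]) (a * T.σ w) 1 (a * b) (T.σ w)
  rw [h.gm, T.ss, k4, h.lng] at e1
  have e2 : ∀ c, M s (a * T.σ w) 1 * y v c * (M s (a * T.σ w) 1)⁻¹ = y v c := fun c => by
    rw [← (cy h hw hs k5 _ _ _).eq, mul_inv_cancel_right]
  rw [this, h.cj r v s h2 h1 k1, ← conj_mul, ← conj_mul, h.cj r v s h2 h1 k1, e1, e2,
    mul_assoc (_ * y v _), mul_assoc (M _ _ _), hs.add v v.2, mul_assoc (_ * M _ _ _),
    ← mul_assoc (y v _), (cy h hw hs k6 _ _ _).eq, mul_assoc (M _ _ _), hs.add v v.2,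
    show (a * T.σ w) ^ 2 * b * (1 * T.σ 1) + (a * T.σ w * (a * b) * (1 * T.σ w + T.σ (1 * T.σ w)) +
      a ^ 2 * b * (w * T.σ w)) = 0 by
      simp only [map_one, one_mul, T.ss]
      linear_combination (2 * a ^ 2 * b * T.σ w) * hw + (a ^ 2 * b * T.σ w) * h2',
    hs.x_zero, mul_one, mul_assoc (y r b), mul_right_comm a]
  exact mul_inv_eq_iff_eq_mul.2
    ((cy h hw hs k7 _ _ _).mul_right (cy h hw hs k7 _ _ _)).eq

theorem c3 (hs : St D4 y) {r s : Rt E6} (h1 : ip r s = -1) (a b : K) :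
    yy T M w r a * yy T M w s b * (yy T M w r a)⁻¹ * (yy T M w s b)⁻¹ = yy T M w (su r s) (a * b) := by
  have h2' : (2 : K) = 0 := CharTwo.two_eq_zero
  rcases tC r s h1 with h2 | h2
  · obtain ⟨-, k3, k4⟩ := tB r s h1 h2
    have := csP h hw h1 h2 (a * T.σ w) a (b * T.σ w) b
    rw [show a * T.σ w * (b * T.σ w) + a * b * (w * T.σ w) = a * b * T.σ w by
      linear_combination (a * b * T.σ w) * hw,
      show a * T.σ w * b + a * (b * T.σ w) + a * b = a * b by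
        linear_combination (a * b * T.σ w) * h2', (c0P h k3 k4 _ _ _ _).eq] at this
    exact mul_inv_eq_iff_eq_mul.2 this
  have L : ∀ {r s : Rt E6}, ip r s = -1 → gm r = r → gm s ≠ s → ∀ a b,
      yy T M w s a * yy T M w r b * (yy T M w s a)⁻¹ * (yy T M w r b)⁻¹ =
        yy T M w (su r s) (a * b) := fun {r s} h1 h2 h3 a b => by
    obtain ⟨r, rfl⟩ := exists_lr r h2
    rw [yy_lr h hw hs, cl h hw hs h1 h3]
  by_cases k1 : gm r = r <;> by_cases k2 : gm s = s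
  · obtain ⟨r, rfl⟩ := exists_lr r k1
    obtain ⟨s, rfl⟩ := exists_lr s k2
    obtain ⟨v, hv⟩ := tG r s h1
    rw [← hv, yy_lr h hw hs, yy_lr h hw hs, yy_lr h hw hs,
      e4.commutator_add hs (lr_add.2 (add_iff.2 ⟨h1, hv⟩))]
  · rw [← yy_inv h (su r s), mul_comm a, ← L h1 k1 k2]
    group
  · rw [su_comm, L (ip_comm r s ▸ h1) k2 k1]
  · tauto

theorem c2 (hs : St D4 y) {r s : Rt E6} (h1 : 0 ≤ ip r s) (a b : K) :
    Commute (yy T M w r a) (yy T M w s b) := by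
  rcases tE r s h1 with h2 | h2 | ⟨p, q, k1, rfl, ⟨k2, k3⟩, k4, k5⟩
  · exact c1 h hw h1 (Or.inl h2) a b
  · exact c1 h hw h1 (Or.inr h2) a b
  have e1 := c1 h hw k2 (Or.inr k3) a b
  have e2 := c1 h hw k4 (Or.inr k5) 1 b
  rw [← mul_one a, ← c3 h hw hs k1]
  exact ((e1.mul_left e2).mul_left e1.inv_left).mul_left e2.inv_left

end

theorem jobM2 : JobM2.{u} := by
  intro F K _ _ _ _ _ _ T hX G _ _ e t y M hB h
  obtain ⟨w, hw⟩ := hX.kb.half
  let y' : ℕ → K → G := fun n => yy T M w (R6 n)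
  have ey : ∀ r : Rt E6, y' r = yy T M w r := fun r => by simp only [y', R6_val]
  have yx : ∀ (r : Rt E6) u, y' r u * y' (gm r) (T.σ u) = e (T.xs r u) := fun r u => by
    rw [ey, ey, ← h.one, M_yy h hw, one_mul, one_mul]
  refine ⟨y', e6.st_of (fun r a b => ?_) (fun r s k a b => ?_) (fun r s v k a b => ?_), yx,
    fun r a => ?_, ?_⟩
  · rw [ey, yy_add h]
  · rw [ey, ey, (c2 h hw hB.st (by rwa [ip_eq]) a b).eq]
  · obtain ⟨k', rfl⟩ := eq_su k
    rw [ey, ey, ey, c3 h hw hB.st k']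
  · rw [ey, ey, yy_gm h hw, yy, ← conj_mul, h.ty, h.ty, map_mul, T.ss, PP]
  · have : GG E6 y' = e.range ⊔ GG D4 y := by
      refine le_antisymm (SG.gen_le_iff.2 fun r _ a => ?_) (sup_le ?_ (SG.gen_le_iff.2 fun r _ a => ?_))
      · rw [ey]; exact mul_mem (h.mem _ _ _) (h.mem _ _ _)
      · rintro _ ⟨g, rfl⟩
        refine (T.gt_le (A := (GG E6 y').comap e)).2 (fun r _ u => ?_) (hX.tb.gen ▸ mem_top g)
        rw [mem_comap, ← yx]
        exact mul_mem (x_mem_GG r _) (x_mem_GG (gm r) _)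
      · rw [← yy_lr h hw hB.st, ← ey]; exact x_mem_GG (lr r) _
    rw [this]
    exact hB.ct

end H75.TEM2
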