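/- S3275, chapter alpha: an elementary abelian group of order 27 in `P × ⟨y⟩`. -/
import Cfsg.Agent.H48.DNASpec

set_option autoImplicit false

namespace H75.DnG1
open Subgroup Cfsg H98 H48.DP H48.DP2 H57.DPC H26.DA H98.DP0C
open scoped commutatorElement

universe u
variable {G : Type u} [Group G]

theorem form {A : Subgroup G} {y g : G} (h : A ≤ C1 y) (hg : g ∈ A ⊔ zpowers y) :
    ∃ a ∈ A, ∃ k : ℤ, g = a * y ^ k := by
  have cm : ∀ a ∈ A, Commute a y := fun a ha => mem_centralizer_singleton_iff.1 (h ha)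
  let K : Subgroup G :=
    { carrier := {g | ∃ a ∈ A, ∃ k : ℤ, g = a * y ^ k}
      one_mem' := ⟨1, A.one_mem, 0, by simp⟩
      mul_mem' := by
        rintro _ _ ⟨a, ha, k, rfl⟩ ⟨b, hb, l, rfl⟩
        refine ⟨a * b, A.mul_mem ha hb, k + l, ?_⟩
        rw [zpow_add, mul_assoc, ← mul_assoc (y ^ k), ← ((cm b hb).zpow_right k).eq]
        simp only [mul_assoc]
      inv_mem' := by
        rintro _ ⟨a, ha, k, rfl⟩
        exact ⟨a⁻¹, A.inv_mem ha, -k, by rw [mul_inv_rev, ← zpow_neg, ((cm a ha).inv_left.zpow_right _).eq]⟩ }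
  exact (sup_le (fun a ha => ⟨a, ha, 0, by simp⟩) (zpowers_le.2 ⟨1, A.one_mem, 1, by simp⟩) :
    A ⊔ zpowers y ≤ K) hg

theorem step [Finite G] {A : Subgroup G} {y : G} (h : A ≤ C1 y) (e : ∀ a ∈ A, a ^ 3 = 1) (y3 : y ^ 3 = 1)
    (n : y ∉ A) : (∀ g ∈ A ⊔ zpowers y, g ^ 3 = 1) ∧ 3 * Nat.card A ≤ Nat.card ↥(A ⊔ zpowers y) := by
  have e3 : ∀ g ∈ A ⊔ zpowers y, g ^ 3 = 1 := fun g hg => by
    obtain ⟨a, ha, k, rfl⟩ := form h hg
    have : Commute a y := mem_centralizer_singleton_iff.1 (h ha)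
    rw [(this.zpow_right k).mul_pow, e a ha, ← zpow_natCast, ← zpow_mul, mul_comm k, zpow_mul, zpow_natCast, y3]
    simp
  refine ⟨e3, ?_⟩
  have : Fact (Nat.Prime 3) := ⟨Nat.prime_three⟩
  have pg : IsPGroup 3 ↥(A ⊔ zpowers y) := fun g => ⟨1, Subtype.ext (by simpa using e3 g g.2)⟩
  obtain ⟨m, hm⟩ := pg.index (A.subgroupOf (A ⊔ zpowers y))
  have c := (A.subgroupOf (A ⊔ zpowers y)).card_mul_index
  rw [Nat.card_congr (subgroupOfEquivOfLe (le_sup_left : A ≤ A ⊔ zpowers y)).toEquiv, hm] at c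
  rcases m with _ | m
  · rw [pow_zero, index_eq_one, subgroupOf_eq_top] at hm
    exact absurd (hm (le_sup_right (a := A) (mem_zpowers y))) n
  · rw [← c, pow_succ]
    have := Nat.pos_of_ne_zero (pow_ne_zero m (by decide : 3 ≠ 0))
    nlinarith

theorem job : JG1.{u} := by
  intro g0 G _ _ M Q P y z r ua l PM yM
  have y3 : y ^ 3 = 1 := l.y3 ▸ pow_orderOf_eq_one y
  have zP : z ∈ P := (commutator_le.2 fun a ha b hb => P.mul_mem (P.mul_mem (P.mul_mem ha hb) (P.inv_mem ha))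
    (P.inv_mem hb) : ⁅P, P⁆ ≤ P) (l.der ▸ mem_zpowers z)
  have zl : zpowers z ≤ P := zpowers_le.2 zP
  have cz : Nat.card (zpowers z) = 3 := (Nat.card_zpowers z).trans l.z3
  obtain ⟨p, hp, np⟩ : ∃ p ∈ P, p ∉ zpowers z := by
    by_contra n
    push_neg at n
    have := card_le_of_le (show P ≤ zpowers z from n)
    rw [l.card, cz] at this
    omega
  have zp : zpowers z ≤ C1 p := zpowers_le.2 (mem_centralizer_singleton_iff.2
    (mem_centralizer_singleton_iff.1 (l.zc hp)).symm)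
  obtain ⟨a1, a2⟩ := step zp (fun a ha => l.ex a (zl ha)) (l.ex p hp) np
  have bP : zpowers z ⊔ zpowers p ≤ P := sup_le zl (zpowers_le.2 hp)
  obtain ⟨b1, b2⟩ := step (bP.trans l.Py) a1 y3 fun h => l.yP (bP h)
  have yy : zpowers y ≤ C1 y := zpowers_le.2 (mem_C1_self y)
  have YP : P ⊔ zpowers y ≤ C1 z := sup_le l.zc (zpowers_le.2 (mem_centralizer_singleton_iff.2
    (mem_centralizer_singleton_iff.1 (l.Py zP)).symm))
  have bY : zpowers z ⊔ zpowers p ⊔ zpowers y ≤ P ⊔ zpowers y := sup_le_sup_right bP _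
  have ce : ∀ {Y : Subgroup G} {w : G}, Y ≤ C1 w → zpowers w ≤ Ce Y := fun h =>
    zpowers_le.2 fun g hg => mem_centralizer_singleton_iff.1 (h hg)
  have hB : E27 (zpowers z ⊔ zpowers p ⊔ zpowers y) := by
    have bp : zpowers z ⊔ zpowers p ⊔ zpowers y ≤ C1 p := sup_le (sup_le zp (zpowers_le.2 (mem_C1_self p)))
      (zpowers_le.2 (mem_centralizer_singleton_iff.2 (mem_centralizer_singleton_iff.1 (l.Py hp)).symm))
    have cm := sup_le (sup_le (ce (bY.trans YP)) (ce bp)) (ce (bY.trans (sup_le l.Py yy)))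
    refine ⟨⟨⟨⟨fun a b => Subtype.ext (cm b.2 a a.2)⟩⟩, b1⟩, ?_⟩
    omega
  refine ⟨⟨_, hB, bY, le_sup_right (a := zpowers z ⊔ zpowers p) (mem_zpowers y),
    le_sup_left (b := zpowers y) (le_sup_left (b := zpowers p) (mem_zpowers z))⟩, fun H hH PH yH => ?_⟩
  have YH : P ⊔ zpowers y ≤ H := sup_le PH (zpowers_le.2 yH)
  rcases (g0 G M Q H _ ua hH hB (bY.trans (le_inf YH (sup_le PM (zpowers_le.2 yM))))).2 with
    h | h | ⟨D, x, b⟩
  · exact .inl h
  · exact .inr h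
  obtain ⟨c1, c2⟩ := step l.Py l.ex y3 l.yP
  have c3 := b.nY _ YH c1 (by rw [l.card] at c2; omega)
  have c4 := (step (zl.trans l.Py) (fun a ha => l.ex a (zl ha)) y3 fun h => l.yP (zl h)).2
  have := card_le_of_le (le_inf (sup_le_sup_right zl _) (sup_le (ce YP) (ce (sup_le l.Py yy))) :
    zpowers z ⊔ zpowers y ≤ (P ⊔ zpowers y) ⊓ Ce (P ⊔ zpowers y))
  omega

end H75.DnG1
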