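import Cfsg.Agent.H51.TESpec

/-! Slot TE2-DIH (S1308). -/

set_option autoImplicit false

namespace H75.TeDih

open Cfsg Subgroup H14 H98 H1.Gold H14.FE H51.TE

universe u

theorem aux {A : Type u} [Group A] (h2 : ∀ a : A, a * a = 1) (hc : ∀ a b : A, a * b = b * a)
    (X U : MulAut A) (k : ℕ) (hX : X * X = 1) (hU : U * U = 1)
    (hm : (U * (X * U * X⁻¹)) ^ (2 * k + 1) = 1) (e : A) (he : e ≠ 1) (hUe : U e = e) :
    ∃ e : A, e ≠ 1 ∧ U e = e ∧ X (((U * X) ^ k) e) = ((U * X) ^ k) e := by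
  have hXi : X⁻¹ = X := inv_eq_of_mul_eq_one_right hX
  have hUi : U⁻¹ = U := inv_eq_of_mul_eq_one_right hU
  obtain ⟨W, hW⟩ : ∃ W, W = U * X := ⟨_, rfl⟩
  have hXW : X = U * W := by rw [hW, ← mul_assoc, hU, one_mul]
  have h1 : U * W * U⁻¹ = W⁻¹ := by rw [← hXW, hW, mul_inv_rev, hXi]
  have h3 : ∀ j : ℕ, U * W ^ j = (W ^ j)⁻¹ * U := fun j => by
    rw [← inv_pow, ← h1, conj_pow, inv_mul_cancel_right]
  have hZ : W ^ (2 * k + 1) * W ^ (2 * k + 1) = 1 := by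
    rw [← pow_two, ← pow_mul, mul_comm, pow_mul, ← hm, hXi, hW, pow_two]
    simp only [mul_assoc]
  have hUZ : U * W ^ (2 * k + 1) = W ^ (2 * k + 1) * U := by
    rw [h3, inv_eq_of_mul_eq_one_right hZ]
  have h4 : X * W ^ k = W ^ k * (U * W ^ (2 * k + 1)) := by
    have : W ^ k * U = U * (W ^ k)⁻¹ := by
      rw [eq_mul_inv_iff_mul_eq, mul_assoc, h3, mul_inv_cancel_left]
    rw [← mul_assoc, this, hXW]
    group
  obtain ⟨Z, hZe⟩ : ∃ Z, Z = W ^ (2 * k + 1) := ⟨_, rfl⟩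
  rw [← hZe] at hZ hUZ h4
  obtain ⟨f, f1, f2, f3⟩ : ∃ f : A, f ≠ 1 ∧ U f = f ∧ Z f = f := by
    by_cases hz : Z e = e
    · exact ⟨e, he, hUe, hz⟩
    · refine ⟨e * Z e, fun h => hz ?_, ?_, ?_⟩
      · rw [eq_inv_of_mul_eq_one_right h, inv_eq_of_mul_eq_one_right (h2 e)]
      · rw [map_mul, hUe, ← MulAut.mul_apply, hUZ, MulAut.mul_apply, hUe]
      · rw [map_mul, ← MulAut.mul_apply, hZ, MulAut.one_apply, hc]
  refine ⟨f, f1, f2, ?_⟩
  rw [← hW, ← MulAut.mul_apply, h4, MulAut.mul_apply, MulAut.mul_apply, f3, f2]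

theorem job : H51.TE.DIH.{u} := by
  intro G _ _ F x u m hF hx hu hxx huu ⟨k, hk⟩ hm ⟨e, heF, he1, hue⟩
  have hap : ∀ (g : nor F) (a : F), ((F.normalizerMonoidHom g a : F) : G) = g * a * (g : G)⁻¹ :=
    fun _ _ => rfl
  have hker : ∀ g : nor F, (g : G) ∈ cen F → F.normalizerMonoidHom g = 1 := fun g hg => by
    ext a
    rw [hap, ← (mem_centralizer_iff.1 hg) a a.2]
    simp
  obtain ⟨f, f1, f2, f3⟩ := aux (A := F) (fun a => Subtype.ext (hF a a.2))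
    (fun a b => Subtype.ext (El.comm hF a.2 b.2)) (F.normalizerMonoidHom ⟨x, hx⟩)
    (F.normalizerMonoidHom ⟨u, hu⟩) k (by rw [← map_mul]; exact hker _ hxx)
    (by rw [← map_mul]; exact hker _ huu)
    (by
      rw [← map_inv, ← map_mul, ← map_mul, ← map_mul, ← map_pow, ← hk]
      exact hker _ hm) ⟨e, heF⟩ (fun h => he1 (congrArg Subtype.val h))
    (Subtype.ext (by rw [hap]; simp [hue]))
  refine ⟨(u * x) ^ k, pow_mem (mul_mem (subset_closure (by simp)) (subset_closure (by simp))) k,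
    f, f.2, fun h => f1 (Subtype.ext h), ?_, ?_⟩
  · have := congrArg Subtype.val f2
    rw [hap] at this
    exact mul_inv_eq_iff_eq_mul.1 this
  · rw [← map_mul, ← map_pow] at f3
    have := congrArg Subtype.val f3
    rw [hap, hap] at this
    exact mul_inv_eq_iff_eq_mul.1 this

end H75.TeDih
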