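import Cfsg.Agent.H20.DGSpec

/-! Slot DG-JO: two overlapping cycles of prime length give a Jordan set. -/

set_option autoImplicit false

namespace H75.DgJO

open Subgroup MulAction Cfsg H98 H20.DG

universe u v

theorem dvd_of_classes {Ω : Type v} [Finite Ω] (R : Ω → Ω → Prop) (hr : ∀ a, R a a)
    (hs : ∀ a b, R a b → R b a) (ht : ∀ a b c, R a b → R b c → R a c) (t : ℕ) :
    ∀ (n : ℕ) (S : Set Ω), S.ncard = n → (∀ a ∈ S, ∀ b, R a b → b ∈ S) →
      (∀ a ∈ S, {b | R a b}.ncard = t) → t ∣ n := by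
  intro n
  induction n using Nat.strong_induction_on with
  | _ n ih =>
    intro S hn hc hcard
    rcases S.eq_empty_or_nonempty with rfl | ⟨a, ha⟩
    · rw [Set.ncard_empty] at hn
      rw [← hn]
      exact dvd_zero t
    · have hsub : {b | R a b} ⊆ S := fun b hb => hc a ha b hb
      have h1 := Set.ncard_diff_add_ncard_of_subset hsub (Set.toFinite S)
      have hpos : 0 < {b | R a b}.ncard := (Set.ncard_pos (Set.toFinite _)).2 ⟨a, hr a⟩
      rw [hcard a ha] at h1 hpos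
      have h2 : t ∣ (S \ {b | R a b}).ncard := by
        refine ih _ (by omega) _ rfl ?_ fun x hx => hcard x hx.1
        intro x hx y hxy
        exact ⟨hc x hx.1 y hxy, fun hy => hx.2 (ht a y x hy (hs x y hxy))⟩
      rw [← hn, ← h1]
      exact dvd_add h2 dvd_rfl

section

variable {G : Type u} {Ω : Type v} [Group G] [MulAction G Ω]

/-- conjugate under the pointwise stabiliser of the complement of `Γ` -/
def Rl (G : Type u) [Group G] [MulAction G Ω] (Γ : Set Ω) (a b : Ω) : Prop :=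
  ∃ g : G, (∀ c, c ∉ Γ → g • c = c) ∧ g • a = b

theorem Rl.rfl' (Γ : Set Ω) (a : Ω) : Rl G Γ a a := ⟨1, fun c _ => one_smul G c, one_smul G a⟩

theorem Rl.symm' {Γ : Set Ω} {a b : Ω} (h : Rl G Γ a b) : Rl G Γ b a := by
  obtain ⟨g, hg, e⟩ := h
  refine ⟨g⁻¹, fun c hc => ?_, by rw [← e, inv_smul_smul]⟩
  rw [inv_smul_eq_iff, hg c hc]

theorem Rl.trans' {Γ : Set Ω} {a b c : Ω} (h : Rl G Γ a b) (h' : Rl G Γ b c) : Rl G Γ a c := by
  obtain ⟨g, hg, e⟩ := h
  obtain ⟨k, hk, e'⟩ := h'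
  exact ⟨k * g, fun x hx => by rw [mul_smul, hg x hx, hk x hx], by rw [mul_smul, e, e']⟩

theorem Rl.mem {Γ : Set Ω} {a b : Ω} (h : Rl G Γ a b) (ha : a ∈ Γ) : b ∈ Γ := by
  obtain ⟨g, hg, e⟩ := h.symm'
  by_contra hb
  rw [hg b hb] at e
  exact hb (e ▸ ha)

theorem Rl.smul {Γ : Set Ω} {a b : Ω} (h : Rl G Γ a b) {g : G} (hg : ∀ c ∈ Γ, g • c ∈ Γ) :
    Rl G Γ (g • a) (g • b) := by
  obtain ⟨k, hk, e⟩ := h
  refine ⟨g * k * g⁻¹, fun c hc => ?_, by rw [mul_smul, mul_smul, inv_smul_smul, e]⟩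
  have : g⁻¹ • c ∉ Γ := fun hh => hc (by simpa using hg _ hh)
  rw [mul_smul, mul_smul, hk _ this, smul_inv_smul]

theorem ncard_smul {Γ : Set Ω} (a : Ω) {g : G} (hg : ∀ c ∈ Γ, g • c ∈ Γ)
    (hg' : ∀ c ∈ Γ, g⁻¹ • c ∈ Γ) : {b | Rl G Γ (g • a) b}.ncard = {b | Rl G Γ a b}.ncard := by
  have : {b | Rl G Γ (g • a) b} = (fun b => g • b) '' {b | Rl G Γ a b} := by
    ext b
    constructor
    · intro hb
      refine ⟨g⁻¹ • b, ?_, smul_inv_smul g b⟩
      have := Rl.smul hb hg'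
      rwa [inv_smul_smul] at this
    · rintro ⟨c, hc, rfl⟩
      exact Rl.smul hc hg
  rw [this, Set.ncard_image_of_injective _ (MulAction.injective g)]

theorem pres {A : Subgroup G} {β β' : Set Ω} (o : IsOr A β)
    (f : ∀ a ∈ β', a ∉ β → A ≤ stabilizer G a) {g : G} (hg : g ∈ A) :
    ∀ c ∈ β ∪ β', g • c ∈ β ∪ β' := by
  intro c hc
  by_cases hb : c ∈ β
  · exact Or.inl ((o c hb _).2 ⟨g, hg, rfl⟩)
  · have hc' : c ∈ β' := hc.resolve_left hb
    have : g • c = c := f c hc' hb hg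
    rw [this]
    exact hc

end

theorem job : H20.DG.JobJO.{u, v} := by
  intro G Ω _ _ _ _ p A Q β β' hp faith h
  obtain ⟨m, hm1, hm2⟩ := h.meet
  have pA : ∀ g ∈ A, ∀ c ∈ β ∪ β', g • c ∈ β ∪ β' := fun g hg => pres h.o1 h.f1 hg
  have pQ : ∀ g ∈ Q, ∀ c ∈ β ∪ β', g • c ∈ β ∪ β' := fun g hg => by
    have := pres h.o2 h.f2 hg
    rwa [Set.union_comm] at this
  obtain ⟨t, ht⟩ : ∃ t, t = {b | Rl G (β ∪ β') m b}.ncard := ⟨_, rfl⟩
  have hall : ∀ a ∈ β ∪ β', {b | Rl G (β ∪ β') a b}.ncard = t := by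
    rintro a (ha | ha)
    · obtain ⟨g, hg, rfl⟩ := (h.o1 m hm1 a).1 ha
      rw [ht]
      exact ncard_smul m (pA g hg) (pA _ (inv_mem hg))
    · obtain ⟨g, hg, rfl⟩ := (h.o2 m hm2 a).1 ha
      rw [ht]
      exact ncard_smul m (pQ g hg) (pQ _ (inv_mem hg))
  have h2 : 1 < t := by
    obtain ⟨c, hc1, hc⟩ := h.ex
    have : ∃ a : Ω, c • a ≠ a := by
      by_contra hh
      push Not at hh
      exact hc1 (faith c hh)
    obtain ⟨a, ha⟩ := this
    have haΓ : a ∈ β ∪ β' := by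
      by_contra hh
      exact ha (hc a hh)
    rw [← hall a haΓ, Set.one_lt_ncard (Set.toFinite _)]
    exact ⟨a, Rl.rfl' _ a, c • a, ⟨c, hc, rfl⟩, ha.symm⟩
  have hex : ∃ a ∈ β', a ∉ β := by
    by_contra hh
    push Not at hh
    exact h.ne (Set.eq_of_subset_of_ncard_le hh (by rw [h.c1, h.c2]) (Set.toFinite _)).symm
  by_cases hcase : ∃ a ∈ β', a ∉ β ∧ ∃ b ∈ β, Rl G (β ∪ β') a b
  · obtain ⟨a, ha', ha, b, hb, hab⟩ := hcase
    have hsub : insert a β ⊆ {x | Rl G (β ∪ β') a x} := by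
      rintro x (rfl | hx)
      · exact Rl.rfl' _ _
      · obtain ⟨g, hg, rfl⟩ := (h.o1 b hb x).1 hx
        have h3 := Rl.smul hab (pA g hg)
        have h4 : g • a = a := h.f1 a ha' ha hg
        rwa [h4] at h3
    have hle := Set.ncard_le_ncard hsub (Set.toFinite _)
    rw [Set.ncard_insert_of_notMem ha (Set.toFinite _), hall a (Or.inr ha'), h.c1] at hle
    have hΓ : (β ∪ β').ncard ≤ p + p := by
      have := Set.ncard_union_le β β'
      rwa [h.c1, h.c2] at this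
    intro x hx y hy
    by_contra hxy
    have hd : Disjoint {b | Rl G (β ∪ β') x b} {b | Rl G (β ∪ β') y b} := by
      rw [Set.disjoint_left]
      intro z hz hz'
      exact hxy (Rl.trans' hz (Rl.symm' hz'))
    have h5 := Set.ncard_union_eq hd (Set.toFinite _) (Set.toFinite _)
    have h6 : {b | Rl G (β ∪ β') x b} ∪ {b | Rl G (β ∪ β') y b} ⊆ β ∪ β' := by
      rintro z (hz | hz)
      · exact Rl.mem hz hx
      · exact Rl.mem hz hy
    have h7 := Set.ncard_le_ncard h6 (Set.toFinite _)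
    rw [h5, hall x hx, hall y hy] at h7
    omega
  · exfalso
    push Not at hcase
    obtain ⟨a, ha', ha⟩ := hex
    have hsub : {x | Rl G (β ∪ β') a x} ⊆ β' \ {m} := by
      intro x hx
      have hx1 : x ∉ β := fun hb => hcase a ha' ha x hb hx
      refine ⟨(Rl.mem hx (Or.inr ha')).resolve_left hx1, fun e => hx1 ?_⟩
      rw [Set.mem_singleton_iff.1 e]
      exact hm1
    have hle := Set.ncard_le_ncard hsub (Set.toFinite _)
    rw [hall a (Or.inr ha'), Set.ncard_diff_singleton_of_mem hm2, h.c2] at hle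
    have hd : t ∣ p := by
      refine dvd_of_classes (Rl G (β ∪ β')) (Rl.rfl' _) (fun _ _ => Rl.symm')
        (fun _ _ _ => Rl.trans') t p β h.c1 ?_ fun x hx => hall x (Or.inl hx)
      intro x hx y hxy
      by_contra hy
      exact hcase y ((Rl.mem hxy (Or.inl hx)).resolve_left hy) hy x hx hxy.symm'
    have := hp.two_le
    rcases (Nat.dvd_prime hp).1 hd with e | e <;> omega

end H75.DgJO
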