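import Cfsg.Agent.H63.KgvSpec

/-! Slot KGV-JTI. -/

set_option autoImplicit false

namespace H75.KgvTI

open Finset Cfsg H63.Kgv

universe u

theorem mat_of_char {H : Type u} [Group H] {χ : H → ℂ} (h : IsCharacter H χ) :
    ∃ (n : ℕ) (R : H →* Matrix (Fin n) (Fin n) ℂ), ∀ y, χ y = ∑ a, R y a a := by
  obtain ⟨n, ρ, rfl⟩ := h
  refine ⟨n, (LinearMap.toMatrixAlgEquiv' : _ ≃ₐ[ℂ] Matrix (Fin n) (Fin n) ℂ).toMonoidHom.comp ρ,
    fun y => ?_⟩
  rw [Representation.character, LinearMap.trace_eq_matrix_trace ℂ (Pi.basisFun ℂ (Fin n)),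
    LinearMap.toMatrix_eq_toMatrix']
  rfl

theorem block {H : Type u} [Group H] {ι C : Type} [Fintype ι] (n : ι → ℕ)
    (R : ∀ i, H →* Matrix (Fin (n i)) (Fin (n i)) ℂ) (g : ι → C) :
    ∃ (N : ℕ) (ρ : H →* Matrix (Fin N) (Fin N) ℂ) (dg : Fin N → C),
      (∀ h a b, dg a ≠ dg b → ρ h a b = 0) ∧
      ∀ (w : C → ℂ) (h : H), ∑ a, w (dg a) * ρ h a a = ∑ i, w (g i) * ∑ a, R i h a a := by
  classical
  let e := Fintype.equivFin (Σ i, Fin (n i))
  refine ⟨_, ⟨⟨fun h => (Matrix.blockDiagonal' fun i => R i h).submatrix e.symm e.symm, ?_⟩, ?_⟩,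
    fun a => g (e.symm a).1, ?_, ?_⟩
  · simp only [map_one]
    rw [show (Matrix.blockDiagonal' fun i => (1 : Matrix (Fin (n i)) (Fin (n i)) ℂ)) = 1 from
      Matrix.blockDiagonal'_one, Matrix.submatrix_one_equiv]
  · intro a b
    simp only [map_mul]
    rw [Matrix.blockDiagonal'_mul, Matrix.submatrix_mul_equiv]
  · intro h a b hab
    exact Matrix.blockDiagonal'_apply_ne (fun i => R i h) (e.symm a).2 (e.symm b).2
      fun e' => hab (congrArg g e')
  · intro w h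
    refine (Equiv.sum_comp e.symm fun s : Σ i, Fin (n i) =>
      w (g s.1) * (Matrix.blockDiagonal' fun i => R i h) s s).trans ?_
    rw [Fintype.sum_sigma]
    refine sum_congr rfl fun i _ => ?_
    rw [mul_sum]
    exact sum_congr rfl fun a _ => by rw [Matrix.blockDiagonal'_apply_eq]

theorem sum_ee (p : ℕ) [Fact p.Prime] {t : ZMod p} (ht : t ≠ 0) : ∑ c, ee p (t * c) = 0 := by
  have h := AddChar.sum_mulShift t (ZMod.isPrimitive_stdAddChar p)
  rw [if_neg ht] at h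
  simpa [mul_comm] using h

theorem graded (p : ℕ) [Fact p.Prime] {H : Type u} [Group H] {A : ZMod p → H → ℂ}
    (hA : Good p H A) : ∃ (N : ℕ) (ρ : H →* Matrix (Fin N) (Fin N) ℂ) (dg : Fin N → ZMod p),
      (∀ h a b, dg a ≠ dg b → ρ h a b = 0) ∧
      ∀ t, t ≠ 0 → ∀ h, A t h = ∑ a, ee p (t * dg a) * ρ h a a := by
  classical
  obtain ⟨Θ, hΘ, hA⟩ := hA
  choose α β hα hβ e using hΘ
  choose n R hR using fun c => mat_of_char (hα c)
  choose m S hS using fun c => mat_of_char (hβ c)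
  obtain ⟨N, ρ, dg, h1, h2⟩ := block (H := H) (ι := ZMod p ⊕ Σ c : ZMod p, {c' : ZMod p // c' ≠ c})
    (fun i => match i with | .inl c => n c | .inr s => m s.1)
    (fun i => match i with | .inl c => R c | .inr s => S s.1)
    (fun i => match i with | .inl c => c | .inr s => s.2.1)
  refine ⟨N, ρ, dg, h1, fun t ht h => ?_⟩
  rw [h2 (fun c => ee p (t * c)), hA t ht, Fintype.sum_sum_type, Fintype.sum_sigma,
    ← sum_add_distrib]
  refine sum_congr rfl fun c _ => ?_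
  have h3 := sum_ee p ht
  rw [Fintype.sum_eq_add_sum_subtype_ne _ c] at h3
  have h4 : ∑ c' : {c' : ZMod p // c' ≠ c}, ee p (t * c') = -ee p (t * c) := by
    linear_combination h3
  change _ = ee p (t * c) * ∑ a, R c h a a +
    ∑ c' : {c' : ZMod p // c' ≠ c}, ee p (t * c') * ∑ a, S c h a a
  rw [← sum_mul, h4, ← hR, ← hS, e c, Pi.sub_apply]
  ring

theorem job : H63.Kgv.JTI.{u} := by
  intro tm p _ E _ _ H _ r x A Γ hr hrp hi hx hA h1 h2
  classical
  obtain ⟨N, ρ, dg, g1, g2⟩ := graded p hA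
  have hpow : ∀ y : E, y ^ r ∈ H := fun y => hi ▸ H.pow_index_mem y
  obtain ⟨Θ, hΘ, hΓ⟩ := tm p E H r N x ρ dg (fun t y => if hy : y ∈ H then
      ∏ j ∈ range r, ∑ a, ee p (t * dg a) * ρ (MulAut.conjNormal (x ^ j) ⟨y, hy⟩) a a
    else ∑ a, ee p (r * t * dg a) * ρ ⟨y ^ r, hpow y⟩ a a) hr hi hx g1
    (fun t h => dif_pos h.2) (fun t y h hy e => by
      rw [dif_neg hy, show (⟨y ^ r, hpow y⟩ : H) = h from Subtype.ext e.symm])
  refine ⟨Θ, hΘ, fun t ht y => ?_⟩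
  rw [← hΓ t ht y]
  beta_reduce
  by_cases hy : y ∈ H
  · rw [dif_pos hy, h1 t ⟨y, hy⟩]
    exact prod_congr rfl fun j _ => g2 t ht _
  · have hr0 : (r : ZMod p) ≠ 0 := fun e =>
      hrp ((Nat.prime_dvd_prime_iff_eq Fact.out hr).1 ((ZMod.natCast_eq_zero_iff r p).1 e)).symm
    rw [dif_neg hy, h2 t y ⟨y ^ r, hpow y⟩ hy rfl, g2 _ (mul_ne_zero hr0 ht)]

end H75.KgvTI
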