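import Cfsg.Agent.S5051

/-! Odd transpositions whose non-commuting products all have one prime order: the type-four lemma. -/

set_option autoImplicit false

open Cfsg H70 H69 H66.RI MulAction

namespace H75.R3

universe u

theorem ro_false {X Ω : Type*} [Group X] [Finite X] [MulAction X Ω] {a : Ω} {t : X} {Q : Subgroup X}
    (hS : IsRankOneSetup X Ω a t Q) (h2 : TwoRank X) (hQ : IsPGroup 2 Q) {T : Set X}
    (hT : IsOddTranspositionSet T) (hI : ∀ s : X, s ≠ 1 → s * s = 1 → s ∈ T) {p : ℕ} (hp : p.Prime)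
    (p2 : p ≠ 2) (h : ∀ x ∈ T, ∀ y ∈ T, Commute x y ∨ (x * y) ^ p = 1) : False := by
  classical
  have := RO.finite_Ω hS
  have := Fintype.ofFinite Ω
  have := Fact.mk hp
  obtain ⟨s, hs, s', hs', hne⟩ := RO.exists_two_roI hS h2
  obtain ⟨k, hk, ek⟩ := RO.exists_K_conj hS hs hs'
  have k1 : k ≠ 1 := fun e => hne (by simpa [e] using ek)
  have kt1 : k * t ≠ 1 := fun e => RO.ta_ne hS (by rw [← RO.K_mul_t_smul_a hS hk, e, one_smul])
  have kp : k ^ p = 1 := by
    rcases h _ (hI _ kt1 (RO.K_mul_t_sq hS hk)) _ (hI _ hS.ne_one hS.mul_self) with c | e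
    · have := sq_mul_of_commute (RO.K_mul_t_sq hS hk) hS.mul_self c
      rw [mul_assoc k, hS.mul_self, mul_one] at this
      exact absurd (eq_one_of_odd_of_mul_self (RO.odd_orderOf_K hS hk) this) k1
    · rwa [mul_assoc, hS.mul_self, mul_one] at e
  have perm : ∀ g : X, g ^ p = 1 → (MulAction.toPerm g : Equiv.Perm Ω) ^ p ^ 1 = 1 := fun g e => by
    rw [pow_one, ← MulAction.toPermHom_apply, ← map_pow, e, map_one]
  have fx : ∀ b : Ω, k • b = b → b = a ∨ b = t • a := fun b hb => by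
    by_contra hn
    push Not at hn
    obtain ⟨q, hq, rfl⟩ := RO.exists_Q_smul_ta hS hn.1
    have q1 : q ≠ 1 := fun e => hn.2 (by rw [e, one_smul])
    have e : k * q * k⁻¹ = q := RO.eq_of_mem_Q_of_smul_eq hS (RO.conj_mem_Q hS hk.1.1 hq) hq (RO.ta_ne hS) (by
      rw [mul_smul, mul_smul, inv_smul_eq_iff.2 (show k • t • a = t • a from hk.1.2).symm, hb])
    have cq : Commute k q := mul_inv_eq_iff_eq_mul.1 e
    obtain ⟨j, hj⟩ := hQ ⟨q, hq⟩
    have ev : Even (Nat.card (Subgroup.zpowers q)) := by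
      rw [Nat.card_zpowers, ← Nat.not_odd_iff_even]
      exact fun o => q1 (eq_one_of_odd_of_pow_two_pow o (congrArg Subtype.val hj))
    obtain ⟨r, ⟨n, rfl⟩, r1, r2⟩ := exists_invol_of_even ev
    exact k1 (RO.eq_one_of_K_comm hS ⟨hS.le (Q.zpow_mem hq n), r1, r2⟩ hk (cq.zpow_right n).symm)
  have np : ¬ p ∣ Fintype.card Ω := fun hd => by
    have m := Equiv.Perm.card_compl_support_modEq (perm k kp)
    have e : (MulAction.toPerm k : Equiv.Perm Ω).supportᶜ = {a, t • a} := by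
      ext b
      rw [Finset.mem_compl, Equiv.Perm.mem_support, not_not, Finset.mem_insert, Finset.mem_singleton]
      exact ⟨fx b, fun e => e.elim (fun e => e ▸ hk.1.1) fun e => e ▸ hk.1.2⟩
    rw [e, Finset.card_pair (RO.ta_ne hS).symm] at m
    exact p2 ((Nat.prime_dvd_prime_iff_eq hp Nat.prime_two).1
      (Nat.modEq_zero_iff_dvd.1 (m.trans (Nat.modEq_zero_iff_dvd.2 hd))))
  have sT := hI s hs.2.1 hs.2.2
  have ex : ∀ y : {y : X // y = s ∨ (y ∈ T ∧ y • a ≠ a)}, ∃ c : Ω, c ≠ a ∧ (y : X) • c = s • c := by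
    rintro ⟨y, rfl | ⟨hy, ya⟩⟩
    · exact ⟨t • a, RO.ta_ne hS, rfl⟩
    rcases h s sT y hy with c | e
    · exact absurd (RO.fix_of_comm hS hs.2.1 hs.2.2 hs.1 c) ya
    obtain ⟨c, hc⟩ := Equiv.Perm.exists_fixed_point_of_prime np (perm _ e)
    have hc' : y • c = s • c := by
      have : s • s • y • c = s • c := by rw [← mul_smul s y]; exact congrArg (s • ·) hc
      rwa [← mul_smul, hs.2.2, one_smul] at this
    exact ⟨c, fun e => ya (by rw [e, hs.1] at hc'; exact hc'), hc'⟩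
  choose c ca hc using ex
  have ev : ∀ b : Ω, ∃ v ∈ T, v • b = b := fun b => by
    obtain ⟨g, rfl⟩ := RO.exists_smul_eq hS a b
    exact ⟨_, ri_conj hT.1 sT g, by rw [mul_smul, mul_smul, inv_smul_smul, hs.1]⟩
  choose v vT hv using ev
  have yT : ∀ y : {y : X // y = s ∨ (y ∈ T ∧ y • a ≠ a)}, (y : X) ∈ T := fun y =>
    y.2.elim (fun e => by rw [e]; exact sT) And.left
  have sc : ∀ b : Ω, s • b = b → b = a := fun b e => RO.fix_unique hS hs.2.1 hs.2.2 e hs.1
  have fz : ∀ y : {y : X // y = s ∨ (y ∈ T ∧ y • a ≠ a)}, ((y : X) * v (c y) * y) • s • c y = s • c y := fun y => by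
    rw [← hc y, mul_smul, mul_smul, ← mul_smul (y : X) (y : X), ri_sq hT.1 (yT y), one_smul, hv]
  have zT := fun y => ri_conj' hT.1 (vT (c y)) (ri_sq hT.1 (yT y))
  have za : ∀ y : {y : X // y = s ∨ (y ∈ T ∧ y • a ≠ a)}, ((y : X) * v (c y) * y) • a ≠ a := fun y e => by
    have := RO.fix_unique hS (ri_ne_one hT.1 (zT y)) (ri_sq hT.1 (zT y)) (fz y) e
    exact ca y (by rw [← hs.1] at this; exact (smul_left_cancel_iff s).1 this)
  let f : {y : X // y = s ∨ (y ∈ T ∧ y • a ≠ a)} → {y : X // y = s ∨ (y ∈ T ∧ y • a ≠ a)} := fun y =>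
    ⟨y * v (c y) * y, Or.inr ⟨zT y, za y⟩⟩
  have inj : Function.Injective f := fun y y' e => by
    have e : (y : X) * v (c y) * y = y' * v (c y') * y' := congrArg Subtype.val e
    have e1 : c y = c y' := (smul_left_cancel_iff s).1
      (RO.fix_unique hS (ri_ne_one hT.1 (zT y)) (ri_sq hT.1 (zT y)) (fz y) (e ▸ fz y'))
    by_contra hn
    rw [← e1] at e
    have c1 := commute_left_of_mul hT (yT y) (yT y') (fun e => hn (Subtype.ext e)) (vT (c y))
      (commute_swap (ri_sq hT.1 (yT y)) (ri_sq hT.1 (yT y')) e.symm)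
    have := RO.fix_of_comm hS (ri_ne_one hT.1 (vT _)) (ri_sq hT.1 (vT _)) (hv (c y)) c1.symm
    exact ca y (sc _ (hc y ▸ this))
  obtain ⟨y, hy⟩ := Finite.surjective_of_injective inj ⟨s, Or.inl rfl⟩
  exact za y (by rw [show (y : X) * v (c y) * y = s from congrArg Subtype.val hy]; exact hs.1)

variable {G : Type u} [Group G] [Finite G] {D : Set G} {x y w : G}

theorem gen_false (hD : IsOddTranspositionSet D) (cl : ∀ a ∈ D, ∀ b ∈ D, ∃ g : G, b = g * a * g⁻¹)
    (hO : pCore 2 G = ⊥) {p : ℕ} (hp : p.Prime) (p2 : p ≠ 2)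
    (h : ∀ a ∈ D, ∀ b ∈ D, Commute a b ∨ (a * b) ^ p = 1) (hx : x ∈ D) (hy : y ∈ D) (hw : w ∈ D)
    (c : Commute x y) (hxy : x * y ∈ D) (o : IOpp x w) (hX : XX D x w = ⊤) : False := by
  have H : HL D x w := ⟨hD, lined_of hD.1 cl (nonempty_of_line hD.1 hx hy c hxy), hx, hw, o, fun a ha b hb k hab => by
      obtain ⟨g, rfl⟩ := cl x hx a ha
      refine mul_mem_of_se hD cl hO ha hb ?_ hab
      simpa [mul_assoc] using (se_of_mem_XX hD cl hx hy hxy c hw o (by simpa using ri_conj hD.1 hb g⁻¹)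
        (hX ▸ Subgroup.mem_top _) (commute_conj_iff.1 k)).conj hD.1 g,
      fun z h1 h2 => Subgroup.mem_center_iff.2 fun g =>
        (commute_XX (fun e he k => h1 e he (k.commute he)) h2 (hX ▸ Subgroup.mem_top g)).symm⟩
  have := H.isSimpleGroup (fun M a z b c d e f => H51.asch M a z b c d e f) H66.RI.hubSimple
  obtain ⟨_, t, Q, hS, h2, hQ, hI, -⟩ :=
    H.simple_cases (fun M a z b c d e f => H51.asch M a z b c d e f) H66.RI.hubSimple
  exact ro_false hS h2 hQ hD hI hp p2 h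

/-- two different commuting members and a member opposite to both: the product with their product has order
dividing four. -/
theorem four (hD : IsOddTranspositionSet D) {p : ℕ} (hp : p.Prime) (p2 : p ≠ 2)
    (h : ∀ a ∈ D, ∀ b ∈ D, Commute a b ∨ (a * b) ^ p = 1) (hx : x ∈ D) (hy : y ∈ D) (hw : w ∈ D)
    (c : Commute x y) (hne : x ≠ y) (ox : IOpp x w) (oy : IOpp y w) : Commute w (x * y * w * (x * y)) := by
  have sx := ri_sq hD.1 hx; have sy := ri_sq hD.1 hy; have sw := ri_sq hD.1 hw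
  have st := sq_mul_of_commute sx sy c
  refine ot_comm hD hw (ri_conj' hD.1 hw st) fun o => ?_
  have hm := ri_mid_mem hD.1 hw (ri_conj' hD.1 hw st) o
  have c1 := commute_mid_conj st sw o
  have c2 := commute_mul_mid st sw o
  have o1 := opp_mid_left sw (conj_sq sw st) o
  have hS : ∀ s ∈ ({x, y} : Set G), s ∈ D ∧ IOpp s w := by
    rintro _ (rfl | rfl)
    exacts [⟨hx, ox⟩, ⟨hy, oy⟩]
  have mx : x ∈ Subgroup.closure ({x, y} ∪ {w}) := mem_cl_left (Or.inl rfl)
  have my : y ∈ Subgroup.closure ({x, y} ∪ {w}) := mem_cl_left (Or.inr rfl)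
  have mw : w ∈ Subgroup.closure ({x, y} ∪ {w}) := mem_cl_right
  have mm : mid w (x * y * w * (x * y)) ∈ Subgroup.closure ({x, y} ∪ {w}) :=
    mid_mem mw (mul_mem (mul_mem (mul_mem mx my) mw) (mul_mem mx my))
  generalize mid w (x * y * w * (x * y)) = m at hm c1 c2 o1 mm
  have sm := ri_sq hD.1 hm
  have cx := commute_left_of_mul hD hx hy hne hm c1
  have cy := commute_right_of_mul hD hx hy hne hm c1
  have hT := ot_cls hD hw hS
  set V := Subgroup.closure ({x, y} ∪ {w}) with hV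
  have tx := mem_cls_of_opp hD hw (hxV := mw) hx mx ox
  have ty := mem_cls_of_opp hD hw (hxV := mw) hy my oy
  have tm := mem_cls_of_opp hD hw (hxV := mw) hm mm o1
  have hO := isPGroup_pCore_two V
  have ci : ∀ g ∈ V, Commute (x * y * m) g := fun g => commute_of_mem_closure (by
    rintro _ ((rfl | rfl) | rfl)
    · exact ((Commute.refl _).mul_left c.symm).mul_left cx.symm
    · exact (c.mul_left (Commute.refl _)).mul_left cy.symm
    · exact c2)
  have mi : (⟨x * y * m, mul_mem (mul_mem mx my) mm⟩ : V) ∈ pCore 2 V :=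
    mem_pCore_of_sq (mem_twoZCore.2 fun g => by
      rw [conj_eq_of_commute (commute_coe.1 (ci g g.2)).symm, mul_inv_cancel]; exact one_mem _)
      (Subtype.ext (sq_mul_of_commute st sm c1))
  have k : ∀ a ∈ cls (⟨w, mw⟩ : V), ∀ b ∈ cls (⟨w, mw⟩ : V),
      Commute (QuotientGroup.mk' (pCore 2 V) a) (QuotientGroup.mk' (pCore 2 V) b) →
      Commute a b := fun a ha b hb c => commute_of_sq_mem hT hO ha hb ((QuotientGroup.eq_one_iff _).1 (by
        have := sq_mul_of_commute (by rw [← map_mul, ri_sq hT.1 ha, map_one])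
          (by rw [← map_mul, ri_sq hT.1 hb, map_one]) c
        rwa [← map_mul, ← map_mul] at this))
  have nc : ¬ Commute (QuotientGroup.mk' (pCore 2 V) ⟨x, mx⟩) (QuotientGroup.mk' (pCore 2 V) ⟨w, mw⟩) := fun c =>
    ot_nc hD hx hw ox (commute_coe.2 (k _ tx _ (self_mem_cls _) c))
  have hf : ∀ a ∈ cls (⟨w, mw⟩ : V), QuotientGroup.mk' (pCore 2 V) a ≠ 1 := by
    rintro _ ⟨g, rfl⟩ e
    rw [map_mul, map_mul, map_inv, conj_eq_one_iff] at e
    exact nc (e ▸ Commute.one_right _)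
  have h1 := ot_map hT (QuotientGroup.mk'_surjective _) hf
  have e1 : QuotientGroup.mk' (pCore 2 V) ⟨x, mx⟩ * QuotientGroup.mk' (pCore 2 V) ⟨y, my⟩ =
      QuotientGroup.mk' (pCore 2 V) ⟨m, mm⟩ := by
    have : QuotientGroup.mk' (pCore 2 V) ⟨x, mx⟩ * QuotientGroup.mk' (pCore 2 V) ⟨y, my⟩ *
        QuotientGroup.mk' (pCore 2 V) ⟨m, mm⟩ = 1 := by
      rw [← map_mul, ← map_mul]; exact (QuotientGroup.eq_one_iff _).2 mi
    rw [mul_eq_one_iff_eq_inv.1 this, ri_inv h1.1 ⟨_, tm, rfl⟩]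
  have cb : Commute (QuotientGroup.mk' (pCore 2 V) ⟨x, mx⟩) (QuotientGroup.mk' (pCore 2 V) ⟨y, my⟩) :=
    (commute_coe.1 c).map _
  have lb : QuotientGroup.mk' (pCore 2 V) ⟨x, mx⟩ * QuotientGroup.mk' (pCore 2 V) ⟨y, my⟩ ∈
      QuotientGroup.mk' (pCore 2 V) '' cls (⟨w, mw⟩ : V) := e1 ▸ ⟨_, tm, rfl⟩
  refine gen_false h1 (cl_map (cls_cl _)) (pCore_quot _) hp p2 ?_ ⟨_, tx, rfl⟩ ⟨_, ty, rfl⟩
    ⟨_, self_mem_cls _, rfl⟩ cb lb (ot_opp h1 ⟨_, tx, rfl⟩ ⟨_, self_mem_cls _, rfl⟩ nc)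
    (Subgroup.comap_injective (QuotientGroup.mk'_surjective _) ?_)
  · rintro _ ⟨a, ha, rfl⟩ _ ⟨b, hb, rfl⟩
    refine (h a (mem_of_mem_cls hD hw ha) b (mem_of_mem_cls hD hw hb)).imp (fun c => (commute_coe.1 c).map _)
      fun e => ?_
    rw [← map_mul, ← map_pow, show (a * b) ^ p = 1 from Subtype.ext e, map_one]
  rw [Subgroup.comap_top]
  refine cl_eq_top (fun s hs => ?_) mem_XX_right
  rcases hs with rfl | rfl
  · exact mem_XX_left ⟨_, tx, rfl⟩ (SE.refl _)
  · exact mem_XX_left ⟨_, ty, rfl⟩ (se_of_line h1 ⟨_, tx, rfl⟩ ⟨_, ty, rfl⟩ cb lb)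

end H75.R3
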