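import Cfsg.Agent.H75.R3A
import Cfsg.Agent.S0215
import Cfsg.Agent.S0205

/-! Rank three classes of involutions are classes of 3-transpositions. -/

set_option autoImplicit false

open Cfsg H70 H66.RI

namespace H75.R3

universe u

theorem shift {G : Type*} [Group G] {a τ : G} {Y : Subgroup G} {p : ℕ} (po : Odd p) (p3 : p % 3 ≠ 0)
    (ha : a ^ p = 1) (sτ : τ * τ = 1) (c0 : ∀ j : ℕ, Commute τ ((a ^ j)⁻¹ * τ * a ^ j))
    (b1 : a ^ 2 * (a⁻¹ * τ * a) ∈ Y) (b2 : a ^ 4 * ((a ^ 2)⁻¹ * τ * a ^ 2) ∈ Y) : τ ∈ Y := by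
  obtain ⟨T, hT⟩ : ∃ T : ℕ → G, ∀ i, T i = (a ^ i)⁻¹ * τ * a ^ i := ⟨_, fun _ => rfl⟩
  have add : ∀ i j, T (j + i) = (a ^ i)⁻¹ * T j * a ^ i := fun i j => by rw [hT, hT, pow_add]; group
  have T0 : T 0 = τ := by simp [hT]
  have sT : ∀ i, T i * T i = 1 := fun i => by
    rw [hT]; simp only [mul_assoc, mul_inv_cancel_left, sqc sτ, inv_mul_cancel]
  have cT : ∀ i j, Commute (T i) (T j) := by
    have : ∀ i j, Commute (T i) (T (j + i)) := fun i j => by
      have := (c0 j).conj (a ^ i)⁻¹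
      rwa [inv_inv, ← hT i, ← hT j, ← add] at this
    intro i j
    rcases le_total i j with h | h
    · obtain ⟨j, rfl⟩ := Nat.exists_eq_add_of_le' h; exact this _ _
    · obtain ⟨i, rfl⟩ := Nat.exists_eq_add_of_le' h; exact (this _ _).symm
  have per : ∀ i, T (i + p) = T i := fun i => by rw [add, ha]; group
  have b1' : a ^ 2 * T 1 ∈ Y := by rwa [hT, pow_one]
  rw [← hT] at b2
  have s1 : T 1 * T 2 * T 3 ∈ Y := by
    have := Y.mul_mem (Y.inv_mem b2) (Y.mul_mem b1' b1')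
    rw [show (a ^ 4 * T 2)⁻¹ * (a ^ 2 * T 1 * (a ^ 2 * T 1)) = (T 2)⁻¹ * ((a ^ 2)⁻¹ * T 1 * a ^ 2) * T 1 by group,
      ← add, inv_of_sq (sT 2)] at this
    rwa [mul_assoc, ((cT 1 2).mul_right (cT 1 3)).eq]
  have st : ∀ i, T i * T (i + 1) * T (i + 2) ∈ Y → T (i + 2) * T (i + 2 + 1) * T (i + 2 + 2) ∈ Y := fun i h => by
    have := Y.mul_mem (Y.mul_mem (Y.inv_mem b1') h) b1'
    rw [show (a ^ 2 * T 1)⁻¹ * (T i * T (i + 1) * T (i + 2)) * (a ^ 2 * T 1) = (T 1)⁻¹ * (((a ^ 2)⁻¹ * T i * a ^ 2) *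
      ((a ^ 2)⁻¹ * T (i + 1) * a ^ 2) * ((a ^ 2)⁻¹ * T (i + 2) * a ^ 2)) * T 1 by group, ← add, ← add, ← add,
      inv_of_sq (sT 1), conj_eq_of_commute' (((cT _ _).mul_right (cT _ _)).mul_right (cT _ _)) (sT 1)] at this
    exact this
  have so : ∀ k, T (2 * k + 1) * T (2 * k + 1 + 1) * T (2 * k + 1 + 2) ∈ Y := fun k => by
    induction k with
    | zero => exact s1
    | succ k ih => exact st _ ih
  have sa : ∀ i, T i * T (i + 1) * T (i + 2) ∈ Y := fun i => by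
    rcases Nat.even_or_odd' i with ⟨k, rfl | rfl⟩
    · obtain ⟨m, rfl⟩ := po
      have := so (k + m)
      rwa [show 2 * (k + m) + 1 + 2 = 2 * k + 2 + (2 * m + 1) by ring,
        show 2 * (k + m) + 1 + 1 = 2 * k + 1 + (2 * m + 1) by ring,
        show 2 * (k + m) + 1 = 2 * k + (2 * m + 1) by ring, per, per, per] at this
    · exact so k
  have r : ∀ i k, T i * T (i + 3 * k) ∈ Y := fun i k => by
    induction k with
    | zero => rw [mul_zero, add_zero, sT]; exact one_mem _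
    | succ k ih =>
      have := Y.mul_mem ih (Y.mul_mem (sa (i + 3 * k)) (sa (i + 3 * k + 1)))
      simp only [mul_assoc, sqc (sT _), (cT (i + 3 * k + 2) (i + 3 * k + 1)).left_comm] at this
      exact this
  have r12 : T 1 * T 2 ∈ Y := by
    obtain h | h : p % 3 = 1 ∨ p % 3 = 2 := by omega
    · have := r 2 (p / 3)
      rwa [show 2 + 3 * (p / 3) = 1 + p by omega, per, (cT 2 1).eq] at this
    · have := r 1 (p / 3 + 1)
      rwa [show 1 + 3 * (p / 3 + 1) = 2 + p by omega, per] at this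
  have := Y.mul_mem (sa 0) (Y.inv_mem r12)
  rwa [mul_assoc (T 0), mul_inv_cancel_right, T0] at this

variable {G : Type u} [Group G] [Finite G] {D : Set G} {x y z u w : G} {p : ℕ}

/-- the path `x - w - y - u` does not occur. -/
theorem noA4 (hD : IsOddTranspositionSet D) (hp : p.Prime) (p2 : p ≠ 2) (p3 : p ≠ 3)
    (h : ∀ a ∈ D, ∀ b ∈ D, Commute a b ∨ (a * b) ^ p = 1) (hx : x ∈ D) (hu : u ∈ D) (hw : w ∈ D) (hy : y ∈ D)
    (c : Commute x u) (ow : IOpp x w) (cw : Commute u w) (oy : IOpp u y) (cy : Commute x y) :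
    Commute w y := by
  have := Fact.mk hp
  have sx := ri_sq hD.1 hx; have su := ri_sq hD.1 hu; have sw := ri_sq hD.1 hw; have sy := ri_sq hD.1 hy
  by_contra hn
  have ap : (x * w) ^ p = 1 := (h x hx w hw).resolve_left (ot_nc hD hx hw ow)
  have a1 : x * w ≠ 1 := fun e => ow.1 (eq_of_mul_eq_one sx e)
  have ao : orderOf (x * w) = p := orderOf_eq_prime ap a1
  have po : Odd p := hp.odd_of_ne_two p2
  have xa : ∀ j : ℕ, x * (x * w) ^ j = ((x * w) ^ j)⁻¹ * x := mul_pow_of_sq sx sw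
  have ca : Commute u (x * w) := c.symm.mul_right cw
  have wa : w = x * (x * w) := (sqc sx w).symm
  generalize x * w = a at ap a1 ao xa ca wa
  have hxy : x ≠ y := fun e => ot_nc hD hu hy oy (e ▸ c.symm)
  have mD : ∀ j : ℕ, x * a ^ j ∈ D := fun j => by
    obtain ⟨m, hm⟩ := po
    have := ri_conj hD.1 hx (a ^ ((m + 1) * j))⁻¹
    rwa [inv_inv, ← xa, mul_assoc, ← pow_add, show (m + 1) * j + (m + 1) * j = p * j + j by rw [hm]; ring,
      pow_add, pow_mul, ap, one_pow, one_mul] at this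
  have cj : ∀ j : ℕ, ∀ g, x * a ^ j * g * (x * a ^ j) = (a ^ j)⁻¹ * (x * g * x) * a ^ j := fun j g => by
    nth_rewrite 1 [xa]; simp only [mul_assoc]
  have key : ∀ j : ℕ, a ^ j ≠ 1 → IOpp x (x * a ^ j) ∧ IOpp y (x * a ^ j) := fun j hj => by
    have m : a ∈ Subgroup.zpowers (a ^ j) := mem_zpowers_pow_iff.2 (by
      rw [ao, Nat.gcd_comm]
      exact (Nat.Prime.coprime_iff_not_dvd hp).2 fun d => hj (orderOf_dvd_iff_pow_eq_one.1 (ao ▸ d)))
    refine ⟨⟨fun e => hj (by simpa using e), ?_⟩, ot_opp hD hy (mD j) fun k => hn ?_⟩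
    · rw [sqc sx]; exact Odd.of_dvd_nat (ao ▸ po) (orderOf_pow_dvd j)
    · have k1 := cy.symm.mul_right k
      rw [sqc sx] at k1
      obtain ⟨n, e⟩ := m
      have k2 : Commute y a := by rw [← e]; exact k1.zpow_right n
      rw [wa]; exact (cy.symm.mul_right k2).symm
  have st := sq_mul_of_commute sx sy cy
  have xτ : x * (x * y) * x = x * y := conj_eq_of_commute' ((Commute.refl x).mul_right cy) sx
  have c0 : ∀ j : ℕ, Commute (x * y) ((a ^ j)⁻¹ * (x * y) * a ^ j) := fun j => by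
    by_cases hj : a ^ j = 1
    · rw [hj, inv_one, one_mul, mul_one]
    have s1 := ri_sq hD.1 (mD j)
    have k := sq_mul_of_commute s1 (conj_sq s1 st) (four hD hp p2 h hx hy (mD j) cy hxy (key j hj).1 (key j hj).2)
    rw [← xτ, ← cj, xτ]
    refine (commute_of_sq_mul (conj_sq st s1) st ?_).symm
    simpa only [mul_assoc] using k
  have bj : ∀ j : ℕ, a ^ j ≠ 1 →
      a ^ (2 * j) * ((a ^ j)⁻¹ * (x * y) * a ^ j) ∈ Subgroup.centralizer {u * y * u} := fun j hj => by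
    have s1 := ri_sq hD.1 (mD j)
    have c1 : Commute u (x * a ^ j) := c.symm.mul_right (ca.pow_right j)
    have k := commute_conj' (four hD hp p2 h hu (mD j) hy c1
      (fun e => ot_nc hD hx (mD j) (key j hj).1 (e ▸ c)) oy (key j hj).2.symm) su
    rw [show u * (u * (x * a ^ j) * y * (u * (x * a ^ j))) * u = x * a ^ j * y * (x * a ^ j) by
      rw [c1.eq]; nth_rewrite 1 [← c1.eq]; generalize x * a ^ j = v
      rw [show u * (u * v * y * (v * u)) * u = u * u * (v * y * v) * (u * u) by group, su, one_mul, mul_one],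
      cj, conj_eq_of_commute' cy sx] at k
    have k2 : Commute (u * y * u) x := (c.symm.mul_left cy.symm).mul_left c.symm
    have e : a ^ (2 * j) * ((a ^ j)⁻¹ * (x * y) * a ^ j) = x * ((a ^ j)⁻¹ * y * a ^ j) := by
      have := xa j
      have e2 : x * (a ^ j)⁻¹ = a ^ j * x := by
        rw [← inv_inj, mul_inv_rev, mul_inv_rev, inv_inv, inv_of_sq sx]
        calc a ^ j * x = x * (x * a ^ j) * x := by rw [sqc sx]
          _ = _ := by rw [xa]; simp only [mul_assoc, sx, mul_one]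
      rw [← mul_assoc x, ← mul_assoc x, e2, two_mul, pow_add]; group
    rw [e]
    exact Subgroup.mem_centralizer_singleton_iff.2 (k2.mul_right k).symm
  have a2 : a ^ 2 ≠ 1 := fun e => p2 ((Nat.prime_dvd_prime_iff_eq hp Nat.prime_two).1
    (ao ▸ orderOf_dvd_of_pow_eq_one e))
  have p3' : p % 3 ≠ 0 := fun e => p3 ((Nat.prime_dvd_prime_iff_eq Nat.prime_three hp).1
    (Nat.dvd_of_mod_eq_zero e)).symm
  have := Subgroup.mem_centralizer_singleton_iff.1
    (shift po p3' ap st c0 (by simpa using bj 1 (by simpa using a1)) (bj 2 a2))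
  have k : Commute x (u * y * u) := (c.mul_right cy).mul_right c
  have k2 := k.mul_left this
  rw [sqc sx] at k2
  exact ot_nc hD hy (ri_conj' hD.1 hy su) (oy.symm.sq sy su) k2

theorem exists_opp_comm (hD : IsOddTranspositionSet D) (cl : ∀ a ∈ D, ∀ b ∈ D, ∃ g : G, b = g * a * g⁻¹)
    (hO : pCore 2 G = ⊥) (hp : p.Prime) (p2 : p ≠ 2) (h : ∀ a ∈ D, ∀ b ∈ D, Commute a b ∨ (a * b) ^ p = 1)
    (hx : x ∈ D) (hu : u ∈ D) (hne : u ≠ x) : ∃ w ∈ D, IOpp x w ∧ Commute u w := by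
  by_contra hn
  have s : SE D u x := se_of_subset hD cl hu hx fun w hw k => ot_comm hD hx hw fun o => hn ⟨w, hw, o, k⟩
  have c := s.commute hx
  refine hne (eq_of_mul_eq_one (ri_sq hD.1 hu) (Subgroup.mem_bot.1 (hO ▸ mem_pCore_of_mem_E hD.1 hu
    (mul_mem (mem_E hu (.refl u)) (mem_E hx s)) fun w hw => ?_)))
  rcases ot_tri hD hu hw with k | o
  · rw [conj_eq_of_commute' (k.mul_left ((s w hw).1 k)) (sq_mul_of_commute (ri_sq hD.1 hu) (ri_sq hD.1 hx) c)]
  · exact four hD hp p2 h hu hx hw c hne o (s.opp hD hu hx hw o)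

theorem endgame (hD : IsOddTranspositionSet D) (cl : ∀ a ∈ D, ∀ b ∈ D, ∃ g : G, b = g * a * g⁻¹)
    (hO : pCore 2 G = ⊥) (hp : p.Prime) (p2 : p ≠ 2) (p3 : p ≠ 3)
    (h : ∀ a ∈ D, ∀ b ∈ D, Commute a b ∨ (a * b) ^ p = 1)
    (R : ∀ x ∈ D, ∀ s ∈ D, ∀ s' ∈ D, s ≠ x → s' ≠ x → (Commute x s ↔ Commute x s') →
      ∃ g, Commute g x ∧ g * s * g⁻¹ = s')
    (hx : x ∈ D) (hu : u ∈ D) (c : Commute x u) (hne : u ≠ x) : False := by
  have N := fun {x u w y : G} hx hu hw hy => noA4 (x := x) (u := u) (w := w) (y := y) hD hp p2 p3 h hx hu hw hy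
  obtain ⟨w, hw, ow, cw⟩ := exists_opp_comm hD cl hO hp p2 h hx hu hne
  have k1 : ∀ z ∈ D, Commute x z → z ≠ x → Commute w z := fun z hz cz zx => by
    rcases ot_tri hD hu hz with cu | ou
    swap
    · exact N hx hu hw hz c ow cw ou cz
    by_cases zu : z = u
    · exact zu ▸ cw.symm
    refine ot_comm hD hw hz fun o => ?_
    obtain ⟨g, cg, eg⟩ := R z hz u hu x hx (Ne.symm zu) (Ne.symm zx) (iff_of_true cu.symm cz.symm)
    have := subset_of_conj (S := {v | v ∈ D ∧ ¬ Commute z v ∧ Commute x v})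
      (T := {v | v ∈ D ∧ ¬ Commute z v ∧ Commute u v})
      (fun v hv => ⟨hv.1, hv.2.1, ot_comm hD hu hv.1 fun ov => hv.2.1
        (N hw hu hz hv.1 cw.symm o cu ov (N hx hu hw hv.1 c ow cw ov hv.2.2))⟩) g
      fun v hv => ⟨ri_conj hD.1 hv.1 g, fun k => hv.2.1 (by
        rw [← conj_eq_of_commute cg] at k; simpa [mul_assoc] using k.conj g⁻¹), eg ▸ hv.2.2.conj g⟩
    exact ot_nc hD hx hw ow (this ⟨hw, ot_nc hD hz hw o.symm, cw⟩).2.2
  have k2 : ∀ v ∈ D, (v = x ∨ ¬ Commute x v) → ∀ z ∈ D, Commute x z → z ≠ x → Commute v z :=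
    fun v hv hv' z hz cz zx => by
      rcases hv' with rfl | nc
      · exact cz
      obtain ⟨g, cg, rfl⟩ := R x hx w hw v hv ow.1.symm (fun e => nc (e ▸ Commute.refl _))
        (iff_of_false (ot_nc hD hx hw ow) nc)
      refine commute_conj_iff.2 (k1 _ (by simpa using ri_conj hD.1 hz g⁻¹) ?_ fun e => zx ?_)
      · exact commute_conj_iff.1 (by rwa [conj_eq_of_commute cg])
      · rw [← conj_eq_of_commute cg, ← e]; group
  have inv := conj_mem_of_closure (T := D) (U := {v | v ∈ D ∧ (v = x ∨ ¬ Commute x v)})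
    (fun _ => ri_sq hD.1) fun d hd v hv => by
      have sd := ri_sq hD.1 hd
      have m := ri_conj' hD.1 hv.1 sd
      refine ⟨m, ?_⟩
      by_cases hd' : d = x ∨ ¬ Commute x d
      · by_contra hn
        rw [not_or, not_not] at hn
        have e := conj_eq_of_commute' (k2 d hd hd' _ m hn.2 hn.1) sd
        rw [conj_conj sd] at e
        rw [← e] at hn
        exact hv.2.elim hn.1 fun k => k hn.2
      · rw [not_or, not_not] at hd'
        rw [conj_eq_of_commute' (k2 v hv.1 hv.2 d hd hd'.2 hd'.1).symm sd]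
        exact hv.2
  obtain ⟨g, rfl⟩ := cl x hx u hu
  exact (inv g (hD.1.generates ▸ Subgroup.mem_top g) x ⟨hx, Or.inl rfl⟩).2.elim hne fun k => k c

theorem main (hsol : ∀ N : Subgroup G, N.Normal → Group.IsSolvable ↥N → N = ⊥) (hinv : ∀ d ∈ D, orderOf d = 2)
    (hconj : ∃ d ∈ D, D = conjugatesOf d) (hgen : Subgroup.closure D = ⊤)
    (hrank : ∀ x ∈ D, ∃ y z : G, ∀ s ∈ D, s ≠ x →
      (∃ g : G, Commute g x ∧ g * y * g⁻¹ = s) ∨ ∃ g : G, Commute g x ∧ g * z * g⁻¹ = s) :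
    ∀ d ∈ D, ∀ e ∈ D, (d * e) ^ 2 = 1 ∨ (d * e) ^ 3 = 1 := by
  obtain ⟨x, hx, hD⟩ := hconj
  have mem : ∀ y, y ∈ D ↔ ∃ g : G, g * x * g⁻¹ = y := fun y => by rw [hD]; exact isConj_iff
  have cl : ∀ a ∈ D, ∀ b ∈ D, ∃ g : G, b = g * a * g⁻¹ := fun a ha b hb => by
    obtain ⟨g, rfl⟩ := (mem a).1 ha
    obtain ⟨k, rfl⟩ := (mem b).1 hb
    exact ⟨k * g⁻¹, by group⟩
  have cj : ∀ d ∈ D, ∀ g : G, g * d * g⁻¹ ∈ D := fun d hd g => by
    obtain ⟨k, rfl⟩ := (mem d).1 hd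
    exact (mem _).2 ⟨g * k, by group⟩
  have sq : ∀ d ∈ D, d * d = 1 := fun d hd => by rw [← pow_two, ← hinv d hd, pow_orderOf_eq_one]
  have x1 : x ≠ 1 := fun e => by have := hinv x hx; rw [e, orderOf_one] at this; exact absurd this (by decide)
  have hO : pCore 2 G = ⊥ := hsol _ inferInstance (by
    have := (isPGroup_pCore_two G).isNilpotent
    infer_instance)
  have bs : ∃ g : G, ∀ k : ℕ, (x * (g * x * g⁻¹)) ^ 2 ^ k ≠ 1 := by
    by_contra hn
    push Not at hn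
    exact x1 (Subgroup.mem_bot.1 (hO ▸ H83.mem_pCore_of_baer_suzuki fun g =>
      (hn g).elim fun k hk => H83.isPGroup_closure_pair (sq x hx) (sq _ (cj x hx g)) hk))
  obtain ⟨g, hg⟩ := bs
  obtain ⟨p, hp, hd, p2⟩ : ∃ p : ℕ, p.Prime ∧ p ∣ orderOf (x * (g * x * g⁻¹)) ∧ p ≠ 2 := by
    by_contra hn
    push Not at hn
    refine hg (orderOf (x * (g * x * g⁻¹))).primeFactorsList.length ?_
    rw [← Nat.eq_prime_pow_of_unique_prime_dvd (orderOf_pos _).ne' fun h1 h2 => hn _ h1 h2, pow_orderOf_eq_one]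
  have := Fact.mk hp
  obtain ⟨w, hw, ow⟩ : ∃ w ∈ D, orderOf (x * w) = p := by
    have e := mul_pow_of_sq (sq x hx) (sq _ (cj x hx g)) (orderOf (x * (g * x * g⁻¹)) / p)
    have o := orderOf_pow_orderOf_div (orderOf_pos _).ne' hd
    generalize (x * (g * x * g⁻¹)) ^ (orderOf (x * (g * x * g⁻¹)) / p) = c at e o
    refine ⟨_, cj x hx c⁻¹, ?_⟩
    rw [inv_inv, ← e, mul_assoc x c, sqc (sq x hx), ← pow_two, Nat.Coprime.orderOf_pow, o]
    rw [o]; exact (Nat.coprime_primes hp Nat.prime_two).2 p2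
  have nc : ¬ Commute x w := fun c => p2 ((Nat.prime_dvd_prime_iff_eq hp Nat.prime_two).1
    (ow ▸ orderOf_dvd_of_pow_eq_one ((pow_two _).trans (sq_mul_of_commute (sq x hx) (sq w hw) c))))
  obtain ⟨u, hu, ux, cu⟩ : ∃ u ∈ D, u ≠ x ∧ Commute x u := by
    by_contra hn
    have zs := H34.zstar (u := x) ⟨hinv x hx, fun g c => by_contra fun e => hn ⟨_, cj x hx g, e, c⟩⟩ w
    rw [hsol _ inferInstance (H42.odd_order (H2.odd_card_oddCore G)), Subgroup.mem_bot] at zs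
    exact nc (commutatorElement_eq_one_iff_commute.1 zs)
  have R : ∀ x ∈ D, ∀ s ∈ D, ∀ s' ∈ D, s ≠ x → s' ≠ x → (Commute x s ↔ Commute x s') →
      ∃ g, Commute g x ∧ g * s * g⁻¹ = s' := fun x' hx' s hs s' hs' n1 n2 i => by
    obtain ⟨k, rfl⟩ := cl x hx x' hx'
    have hu' := cj u hu k; have hw' := cj w hw k
    have ux' : k * u * k⁻¹ ≠ k * x * k⁻¹ := fun e => ux (by simpa using e)
    have cu' := cu.conj k
    have nc' : ¬ Commute (k * x * k⁻¹) (k * w * k⁻¹) := fun c => nc (by simpa [mul_assoc] using c.conj k⁻¹)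
    generalize k * u * k⁻¹ = u at hu' ux' cu'
    generalize k * w * k⁻¹ = w at hw' nc'
    generalize k * x * k⁻¹ = x at *
    obtain ⟨y, z, hr⟩ := hrank x hx'
    have t : ∀ {y s : G}, (∃ g : G, Commute g x ∧ g * y * g⁻¹ = s) → (Commute x s ↔ Commute x y) := by
      rintro y _ ⟨g, c, rfl⟩
      nth_rewrite 1 [← conj_eq_of_commute c]
      exact ⟨fun k => by simpa [mul_assoc] using k.conj g⁻¹, fun k => k.conj g⟩
    have j : ∀ {y : G}, (∃ g : G, Commute g x ∧ g * y * g⁻¹ = s) → (∃ g : G, Commute g x ∧ g * y * g⁻¹ = s') →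
        ∃ g, Commute g x ∧ g * s * g⁻¹ = s' := by
      rintro y ⟨g, c, rfl⟩ ⟨g', c', rfl⟩
      exact ⟨g' * g⁻¹, c'.mul_left c.inv_left, by group⟩
    have l : ¬ (Commute x y ↔ Commute x z) := fun i => by
      have a1 := (hr u hu' ux').imp (fun h => (t h).1 cu') fun h => (t h).1 cu'
      have a2 := (hr w hw' fun e => nc' (e ▸ Commute.refl _)).imp (fun h k => nc' ((t h).2 k))
        fun h k => nc' ((t h).2 k)
      tauto
    rcases hr s hs n1 with a1 | a1 <;> rcases hr s' hs' n2 with a2 | a2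
    · exact j a1 a2
    · exact absurd ((t a1).symm.trans (i.trans (t a2))) l
    · exact absurd ((t a2).symm.trans (i.symm.trans (t a1))) l
    · exact j a1 a2
  have ord : ∀ a ∈ D, ∀ b ∈ D, Commute a b ∨ orderOf (a * b) = p := fun a ha b hb => by
    refine or_iff_not_imp_left.2 fun n => ?_
    obtain ⟨k, rfl⟩ := cl x hx a ha
    obtain ⟨g, c, e⟩ := R x hx w hw _ (cj b hb k⁻¹) (fun e => nc (e ▸ Commute.refl _))
      (fun e => n (by rw [← e]; simp [mul_assoc])) (iff_of_false nc fun c => n (by simpa [mul_assoc] using c.conj k))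
    rw [← ow, ← orderOf_conj_mul g x w, conj_eq_of_commute c, e, ← orderOf_conj_mul k x]
    congr 1; group
  have h : ∀ a ∈ D, ∀ b ∈ D, Commute a b ∨ (a * b) ^ p = 1 := fun a ha b hb =>
    (ord a ha b hb).imp_right fun e => by rw [← e, pow_orderOf_eq_one]
  by_cases p3 : p = 3
  · exact fun d hd e he => (h d hd e he).imp
      (fun c => (pow_two _).trans (sq_mul_of_commute (sq d hd) (sq e he) c)) fun k => p3 ▸ k
  have po := hp.odd_of_ne_two p2
  refine (endgame ⟨⟨hinv, hgen, cj, fun a ha b hb => (ord a ha b hb).imp (fun c => c) fun e => Or.inl (by rwa [e])⟩,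
    fun a ha b hb h4 => ?_⟩ cl hO hp p2 p3 h R hx hu cu ux).elim
  rcases ord a ha b hb with c | e
  · exact Four.not_commute h4 (sq a ha) (sq b hb) c
  · rw [← e, h4] at po; exact absurd po (by decide)

end H75.R3
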