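/- A group with the order of a small Ree group and two isolated Hall classes is that Ree group. -/
import Cfsg.Agent.H84.ReeNse
import Cfsg.Agent.H52.ReeW
import Cfsg.Agent.H24.J1Ord
import Cfsg.Agent.H5.PrimeGraph
import Cfsg.Agent.H46.Coprime
import Cfsg.Agent.H7.ReeUniq
import Cfsg.Agent.S0204

set_option autoImplicit false
open Cfsg Subgroup H46 H10.W

namespace H75.RO
universe u
variable {G : Type u} [Group G] [Finite G] {D A B r s : ℕ}

/-- orders not prime to `D` divide `D` -/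
def Iso (D : ℕ) (G : Type*) [Group G] : Prop := ∀ g : G, ¬ (orderOf g).Coprime D → orderOf g ∣ D

omit [Finite G] in
theorem Iso.quot {H : Type*} [Group H] (h : Iso D G) (f : G →* H) (hf : Function.Surjective f) : Iso D H :=
  fun g hg => by
    obtain ⟨g, rfl⟩ := hf g
    exact (orderOf_map_dvd f g).trans (h g fun c => hg (c.coprime_dvd_left (orderOf_map_dvd f g)))
omit [Finite G] in
theorem Iso.sub (h : Iso D G) (H : Subgroup G) : Iso D H := fun g => orderOf_coe g ▸ h g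
omit [Finite G] in
theorem Iso.nc (h : Iso D G) {x y : G} (c : Commute x y) (hx : ¬ (orderOf x).Coprime D)
    (hy : (orderOf y).Coprime D) : y = 1 := by
  have e := c.orderOf_mul_eq_mul_orderOf_of_coprime (hy.coprime_dvd_right (h x hx)).symm
  exact orderOf_eq_one_iff.1 (hy.eq_one_of_dvd ((Dvd.intro_left _ e.symm).trans
    (h _ fun k => hx (k.coprime_dvd_left (Dvd.intro _ e.symm)))))
theorem ncop (hr : r.Prime) (h : r ∣ D) : ¬ r.Coprime D := fun c => hr.coprime_iff_not_dvd.1 c h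

theorem free {N Z : Subgroup G} (hn : N ≤ Nrm Z) {k : ℕ} (hr : r.Prime) (h : r ^ k ∣ Nat.card N)
    (nc : ∀ x, orderOf x = r → ∀ y ∈ Z, Commute x y → y = 1) : r ^ k ∣ Nat.card Z - 1 := by
  have := Fact.mk hr
  obtain ⟨Q, hQ⟩ := Sylow.exists_subgroup_card_pow_prime r h
  rw [← hQ, ← card_map_subtype]
  refine (semiregular_of_prime_order fun x hx hp => eq_bot_iff.2 fun y hy => nc x ?_ y hy.1
    (mem_centralizer_singleton_iff.1 hy.2).symm).dvd_pred ((map_subtype_le _).trans hn)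
  have := orderOf_dvd_natCard _ hx
  rw [card_map_subtype, hQ] at this
  exact (Nat.prime_dvd_prime_iff_eq hp hr).1 (hp.dvd_of_dvd_pow this)
theorem Iso.free (h : Iso D G) {N Z : Subgroup G} (hn : N ≤ Nrm Z) {k : ℕ} (hr : r.Prime) (hD : r ∣ D)
    (hk : r ^ k ∣ Nat.card N) (hZ : (Nat.card Z).Coprime D) : r ^ k ∣ Nat.card Z - 1 :=
  RO.free hn hr hk fun _ hx _ hy c => h.nc c (hx ▸ ncop hr hD) (hZ.coprime_dvd_left (orderOf_dvd_natCard _ hy))

theorem frat (K : Subgroup G) [K.Normal] {p : ℕ} [Fact p.Prime] (S : Sylow p K) {C : Subgroup G}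
    (h1 : C ≤ Nrm (S.map K.subtype)) (h2 : C ≤ K) : K.index * Nat.card C ∣ Nat.card (Nrm (S.map K.subtype)) := by
  rw [← relIndex_top_right, ← S.normalizer_sup_eq_top, relIndex_sup_right,
    ← Nat.card_congr (subgroupOfEquivOfLe h1).toEquiv, ← index_mul_card (K.subgroupOf (Nrm _))]
  exact mul_dvd_mul_left _ (card_dvd_of_le (subgroupOf_mono _ h2))

theorem lift4 {E : Type*} [Group E] [IsKleinFour E] (f : G →* E) (hf : Function.Surjective f)
    (hk : ∀ x, f x = 1 → Odd (orderOf x)) : ∃ Q : Subgroup G, IsMulCommutative Q ∧ ¬ IsCyclic Q ∧ IsPGroup 2 Q := by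
  obtain ⟨Q⟩ : Nonempty (Sylow 2 G) := inferInstance
  have e : ∀ x : Q, x * x = 1 := fun x => by
    obtain ⟨k, hx⟩ := IsPGroup.iff_orderOf.1 Q.2 (x * x)
    have := hk (x * x) (by rw [map_mul, IsKleinFour.mul_self])
    rw [← coe_mul, orderOf_coe, hx] at this
    rcases k with _ | k
    exacts [orderOf_eq_one_iff.1 hx, absurd this (by simp [pow_succ])]
  refine ⟨Q, ⟨⟨Commute.of_orderOf_dvd_two fun x => orderOf_dvd_of_pow_eq_one ((sq x).trans (e x))⟩⟩, fun c => ?_, Q.2⟩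
  have := Q.pow_dvd_card_of_pow_dvd_card (n := 2) (IsKleinFour.card_four (G := E) ▸ card_dvd_of_surjective f hf : 4 ∣ _)
  rw [← IsCyclic.exponent_eq_card] at this
  exact absurd (this.trans (Monoid.exponent_dvd_of_forall_pow_eq_one fun x => (sq x).trans (e x))) (by decide)

theorem tp (hA : Iso A G) (hB : Iso B G) (c : A.Coprime B) (a2 : A.Coprime 2) (b2 : B.Coprime 2) (hr : r.Prime)
    (hs : s.Prime) (ra : r ∣ A) (sb : s ∣ B) (h1 : r ∣ Nat.card G) (h2 : s ∣ Nat.card G) (h3 : 2 ∣ Nat.card G) :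
    ¬ Group.IsSolvable G := fun _ => by
  have k : ∀ {D r s : ℕ}, Iso D G → r.Prime → r ∣ D → s.Prime → D.Coprime s → ¬ H5.Adj G r s :=
    fun h hr ra hs c ⟨g, hg⟩ => ncop hs ((Dvd.intro_left _ hg.symm).trans
      (h g fun k => ncop hr ra (k.coprime_dvd_left (Dvd.intro _ hg.symm)))) c.symm
  have n : ∀ {D r s : ℕ}, r.Prime → r ∣ D → D.Coprime s → r ≠ s := fun hr ra c e => ncop hr ra (e ▸ c.symm)
  rcases H5.three_primes hr hs Nat.prime_two (n hr ra (c.coprime_dvd_right sb)) (n hr ra a2) (n hs sb b2) h1 h2 h3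
    with h | h | h
  exacts [k hA hr ra hs (c.coprime_dvd_right sb) h, k hA hr ra Nat.prime_two a2 h, k hB hs sb Nat.prime_two b2 h]

theorem pow_two_cases {X : Subgroup G} (hX : IsPGroup 2 X) (n16 : ¬ 16 ∣ Nat.card G) (hr : r.Prime) (r3 : r ≠ 3)
    (h : r ∣ Nat.card X - 1) : X = ⊥ ∨ Nat.card X = 8 ∧ r = 7 := by
  obtain ⟨k, hk⟩ := IsPGroup.iff_card.1 hX
  have : k < 4 := not_le.1 fun e => n16 ((pow_dvd_pow 2 e).trans (hk ▸ card_subgroup_dvd_card X))
  rw [hk] at h
  rw [← card_eq_one, hk]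
  interval_cases k
  · exact .inl rfl
  · exact absurd (Nat.dvd_one.1 h) hr.ne_one
  · exact absurd ((Nat.prime_dvd_prime_iff_eq hr Nat.prime_three).1 h) r3
  · exact .inr ⟨rfl, (Nat.prime_dvd_prime_iff_eq hr (by norm_num)).1 h⟩

theorem struct (hA : Iso A G) (hB : Iso B G) (c : A.Coprime B) (a6 : A.Coprime 6) (b6 : B.Coprime 6) (a1 : A ≠ 1)
    (b1 : B ≠ 1) (dv : A * B ∣ Nat.card G) (two : 2 ∣ Nat.card G) (n16 : ¬ 16 ∣ Nat.card G) :
    ∃ T : Subgroup (G ⧸ oddCore G), T.Normal ∧ IsSimpleGroup T ∧ ¬ IsMulCommutative T ∧ A * B ∣ Nat.card T := by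
  have a2 := a6.coprime_dvd_right (show 2 ∣ 6 by decide)
  have b2 := b6.coprime_dvd_right (show 2 ∣ 6 by decide)
  obtain ⟨r, hr, ra⟩ := Nat.exists_prime_and_dvd a1
  obtain ⟨s, hs, sb⟩ := Nat.exists_prime_and_dvd b1
  have hD : ∀ {r}, r.Prime → r ∣ A * B → ∃ D, r ∣ D ∧ Iso D G ∧ D.Coprime 2 ∧ r ≠ 3 := fun {r} hr h =>
    (hr.dvd_mul.1 h).elim (fun h => ⟨A, h, hA, a2, fun e => absurd (a6.coprime_dvd_left (e ▸ h)) (by decide)⟩)
      fun h => ⟨B, h, hB, b2, fun e => absurd (b6.coprime_dvd_left (e ▸ h)) (by decide)⟩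
  have cp : ∀ {X : Type u} [Group X] [Finite X] {D}, IsPGroup 2 X → D.Coprime 2 → (Nat.card X).Coprime D :=
    fun h c => (IsPGroup.iff_card.1 h).elim fun k e => e ▸ c.symm.pow_left k
  have oO := H2.odd_card_oddCore G
  have sO := H42.odd_order oO
  have q := QuotientGroup.mk'_surjective (oddCore G)
  have cG := card_eq_card_quotient_mul_card_subgroup (oddCore G)
  have n16' : ¬ 16 ∣ Nat.card (G ⧸ oddCore G) := fun e => n16 (cG ▸ e.mul_right _)
  have ns := tp hA hB c a2 b2 hr hs ra sb ((ra.mul_right _).trans dv) ((sb.mul_left _).trans dv) two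
  have ns' : ¬ Group.IsSolvable (G ⧸ oddCore G) := fun e => ns (H24.solvable_of_normal _ sO e)
  obtain ⟨p, hp, p1, p2⟩ : ∃ p, p.Prime ∧ p ∣ A * B ∧ p ∣ Nat.card (G ⧸ oddCore G) := by
    by_contra! n
    have k : ∀ {p}, p.Prime → p ∣ A * B → p ∣ Nat.card (oddCore G ⊔ (default : Sylow 2 G) : Subgroup G) :=
      fun hp h => ((hp.dvd_mul.1 (cG ▸ h.trans dv)).resolve_left (n _ hp h)).trans (card_dvd_of_le le_sup_left)
    have := (default : Sylow 2 G).2.isNilpotent
    exact tp (hA.sub _) (hB.sub _) c a2 b2 hr hs ra sb (k hr (ra.mul_right _)) (k hs (sb.mul_left _))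
      (((default : Sylow 2 G).dvd_card_of_dvd_card two).trans (card_dvd_of_le le_sup_right))
      (sol_sup (le_top.trans (normalizer_eq_top _).ge) sO inferInstance)
  have v : pCore 2 (G ⧸ oddCore G) = ⊥ := by
    obtain ⟨D, d1, d2, d3, d4⟩ := hD hp p1
    have g := H2.pCore_isPGroup 2 (G ⧸ oddCore G)
    refine (pow_two_cases g n16' hp d4 (pow_one p ▸ (d2.quot _ q).free (N := ⊤) (normalizer_eq_top _).ge hp d1
      (by simpa using p2) (cp g d3))).resolve_right fun e => ns' ?_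
    have := g.isNilpotent
    refine H24.solvable_of_odd_index (pCore 2 _) inferInstance (Nat.not_even_iff_odd.1 fun k => n16' ?_)
    rw [← (pCore 2 _).index_mul_card, e.1]
    exact mul_dvd_mul_right k.two_dvd 8
  have : Nontrivial (G ⧸ oddCore G) := not_subsingleton_iff_nontrivial.1 fun _ => ns' inferInstance
  obtain ⟨T, _, _, hT, -⟩ := H24.exists_socle_of (G := G ⧸ oddCore G) (H24.eq_bot_of_cores (H2.pPrimeCore_quotient_pPrimeCore 2 G) v)
    (H24.not_commute_of_sixteen n16')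
  refine ⟨T, ‹_›, ‹_›, hT, Nat.Coprime.dvd_of_dvd_mul_left (m := T.index * Nat.card (oddCore G)) ?_ (by
    rwa [mul_right_comm, T.index_mul_card, ← cG])⟩
  obtain ⟨E, _⟩ := Cfsg.Agent.S0204.result (G := T) fun _ => hT inferInstance
  refine Nat.coprime_of_dvd fun p hp p1 p2 => ?_
  obtain ⟨D, d1, d2, d3, d4⟩ := hD hp p1
  have := Fact.mk hp
  rcases hp.dvd_mul.1 p2 with p2 | p2
  · obtain ⟨S⟩ : Nonempty (Sylow 2 T) := inferInstance
    have g := S.2.map T.subtype
    have f := fun {C : Subgroup (G ⧸ oddCore G)} => frat T S (C := C)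
    have d5 := d2.quot _ q
    have s1 : S.1.map T.subtype ≠ ⊥ := fun e => by
      have := S.dvd_card_of_dvd_card ((show 2 ∣ 4 by decide).trans (IsKleinFour.card_four (G := E) ▸ card_subgroup_dvd_card E))
      rw [← card_map_subtype, e] at this
      simp at this
    obtain ⟨e, rfl⟩ := (pow_two_cases (g.to_le inf_le_left) n16' hp d4 (pow_one p ▸ d5.free (nrm_zc le_rfl) hp d1
      (by simpa using p2.trans ((Dvd.intro _ rfl).trans (f bot_le bot_le))) (cp (g.to_le inf_le_left) d3))).resolve_left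
      (H98.inf_centralizer_ne_bot g g le_normalizer s1)
    have c8 : Nat.card (S.1.map T.subtype) = 8 := by
      obtain ⟨k, hk⟩ := IsPGroup.iff_card.1 g
      have : k < 4 := not_le.1 fun e => n16' ((pow_dvd_pow 2 e).trans (hk ▸ card_subgroup_dvd_card _))
      have := card_le_of_le (inf_le_left : Zc (S.1.map T.subtype) ≤ _)
      rw [e, hk] at this
      interval_cases k <;> simp_all
    have z := (eq_of_le_of_card_ge (inf_le_left : Zc (S.1.map T.subtype) ≤ _) (by rw [e, c8])).ge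
    obtain ⟨C, c1, -, c2⟩ := H52.RB.exists_cyclic (H52.RB.facts T hT (ab2_of_sylow S ⟨⟨fun a b => Subtype.ext
      (Subtype.ext ((z ⟨_, b.2, rfl⟩).2 _ ⟨_, a.2, rfl⟩))⟩⟩)).singer S
    have := f ((map_mono c1).trans (le_normalizer_map _)) (map_subtype_le C)
    rw [card_map_subtype, c2, ← card_map_subtype, c8] at this
    have := d5.free (k := 2) le_rfl hp d1 ((mul_dvd_mul_right p2 7).trans this) (cp g d3)
    rw [c8] at this
    exact absurd this (by decide)
  · obtain ⟨P⟩ : Nonempty (Sylow p (oddCore G)) := inferInstance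
    let X := Nrm (P.1.map (oddCore G).subtype) ⊓ (E.map T.subtype).comap (QuotientGroup.mk' _)
    have : IsKleinFour (E.map T.subtype) := ⟨(card_map_subtype ..).trans IsKleinFour.card_four,
      (Monoid.exponent_eq_of_mulEquiv (E.equivMapOfInjective _ T.subtype_injective)).symm.trans
        IsKleinFour.exponent_two⟩
    let f : X →* E.map T.subtype := ((QuotientGroup.mk' _).comp X.subtype).codRestrict _ fun x => x.2.2
    obtain ⟨Q, q1, q2, q3⟩ := lift4 f (fun e => by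
      obtain ⟨g, hg⟩ := q e
      obtain ⟨n, hn, o, ho, rfl⟩ := mem_sup_of_normal_right.1 (P.normalizer_sup_eq_top.ge (mem_top g))
      rw [map_mul, show QuotientGroup.mk' _ o = 1 from (QuotientGroup.eq_one_iff o).2 ho, mul_one] at hg
      exact ⟨⟨n, hn, mem_comap.2 (hg ▸ e.2)⟩, Subtype.ext hg⟩) fun x hx => by
      rw [← orderOf_coe]
      exact oO.of_dvd_nat (orderOf_dvd_natCard _ ((QuotientGroup.eq_one_iff x.1).1
        (congrArg Subtype.val hx)))
    refine q2 ((Q.equivMapOfInjective _ X.subtype_injective).isCyclic.2 (Semiregular.cyclic_of_comm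
      (K := P.1.map (oddCore G).subtype) (fun x hx x1 => eq_bot_iff.2 fun y hy => by_contra fun y1 => x1 ?_)
      ((map_subtype_le _).trans inf_le_left) (fun e => ?_) inferInstance))
    · obtain ⟨k, hk⟩ := IsPGroup.iff_orderOf.1 (P.2.map (oddCore G).subtype) ⟨y, hy.1⟩
      refine d2.nc (mem_centralizer_singleton_iff.1 hy.2) (fun e => ?_)
        ((cp (q3.map X.subtype) d3).coprime_dvd_left (orderOf_dvd_natCard _ hx))
      rw [← orderOf_coe] at hk
      rcases k with _ | k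
      exacts [y1 (orderOf_eq_one_iff.1 hk), ncop hp d1 (e.coprime_dvd_left (hk ▸ Dvd.intro_left _ rfl))]
    · have := P.dvd_card_of_dvd_card p2
      rw [← card_map_subtype, e] at this
      exact hp.ne_one (by simpa using this)

theorem card_p {X : Subgroup G} {p : ℕ} [hp : Fact p.Prime] (hX : IsPGroup p X) (h : p ∣ Nat.card X)
    (n : ¬ p ^ 2 ∣ Nat.card G) : Nat.card X = p := by
  obtain ⟨k, hk⟩ := IsPGroup.iff_card.1 hX
  have : k < 2 := not_le.1 fun e => n ((pow_dvd_pow p e).trans (hk ▸ card_subgroup_dvd_card X))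
  rw [hk] at h ⊢
  interval_cases k
  exacts [absurd (Nat.dvd_one.1 h) hp.out.ne_one, pow_one p]

theorem cases [IsSimpleGroup G] (hG : ¬ IsMulCommutative G) (n16 : ¬ 16 ∣ Nat.card G) :
    IsL2E G ∨ (∃ q, Odd q ∧ IsL2 G q) ∨ 5 ∣ Nat.card G ∨ Lie.IsoRee G := by
  obtain ⟨S⟩ : Nonempty (Sylow 2 G) := inferInstance
  have k : Ab2 G → IsL2E G ∨ (∃ q, Odd q ∧ IsL2 G q) ∨ 5 ∣ Nat.card G ∨ Lie.IsoRee G := fun h =>
    (H52.RB.walter G hG h).imp_right fun h => h.imp (fun ⟨q, _, a, b⟩ => ⟨q, Nat.odd_iff.2 (by omega), b⟩)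
      fun h => h.imp_left fun h => by rw [h.2]; decide
  obtain ⟨j, hj⟩ := IsPGroup.iff_card.1 S.2
  have : j < 4 := not_le.1 fun e => n16 ((pow_dvd_pow 2 e).trans (hj ▸ card_subgroup_dvd_card _))
  have := S.pow_dvd_card_of_pow_dvd_card (n := 2) (H24.four_dvd_of_not_solvable fun _ =>
    hG ⟨⟨IsSimpleGroup.comm_iff_isSolvable.2 ‹_›⟩⟩)
  rw [hj, Nat.pow_dvd_pow_iff_le_right one_lt_two] at this
  interval_cases j
  · exact k (ab2_of_sylow S (IsPGroup.isMulCommutative_of_card_eq_prime_sq hj))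
  · rcases H24.cases_of_eight hG S hj with h | ⟨q, a, -, b⟩ | ⟨⟨e⟩⟩
    exacts [k h, .inr (.inl ⟨q, a, b⟩), .inr (.inr (.inl (by
      rw [Nat.card_congr e.toEquiv, nat_card_alternatingGroup]; simp; decide)))]

theorem l2num {q c d : ℕ} (hc : A.Coprime B) (a2 : A.Coprime 2) (b2 : B.Coprime 2) (a1 : A ≠ 1) (b1 : B ≠ 1)
    (h : A * B ∣ 2 * c * (q * d)) (e : 2 ∣ c) (ca : ¬ c.Coprime A → c ∣ A) (cb : ¬ c.Coprime B → c ∣ B)
    (da : ¬ d.Coprime A → d ∣ A) (db : ¬ d.Coprime B → d ∣ B) (hq : IsPrimePow q) :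
    A ∣ q ∧ B = d ∨ B ∣ q ∧ A = d := by
  have k : ∀ {A}, A.Coprime 2 → (¬ c.Coprime A → c ∣ A) → A.Coprime (2 * c) := fun a2 ca =>
    a2.mul_right (by_contra fun n => ncop Nat.prime_two (e.trans (ca fun k => n k.symm)) a2.symm)
  replace h := ((k a2 ca).mul_left (k b2 cb)).dvd_of_dvd_mul_left h
  have l : ∀ {A B}, A.Coprime B → A ≠ 1 → B ≠ 1 → A * B ∣ q * d → d.Coprime A → (¬ d.Coprime B → d ∣ B) →
      A ∣ q ∧ B = d := fun {A B} hc a1 b1 h c db => by
    have a := c.symm.dvd_of_dvd_mul_right ((Dvd.intro _ rfl).trans h)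
    obtain ⟨p, n, hp, -, rfl⟩ := (isPrimePow_nat_iff q).1 hq
    obtain ⟨i, -, rfl⟩ := (Nat.dvd_prime_pow hp).1 a
    have b := ((Nat.coprime_pow_left_iff (Nat.pos_of_ne_zero fun e => a1 (by rw [e, pow_zero])) _ _).1
      hc).symm.pow_right n |>.dvd_of_dvd_mul_left ((Dvd.intro_left _ rfl).trans h)
    exact ⟨a, Nat.dvd_antisymm b (db fun e => b1 (e.symm.eq_one_of_dvd b))⟩
  by_cases c : d.Coprime A
  exacts [.inl (l hc a1 b1 h c db), .inr (l hc.symm b1 a1 (mul_comm A B ▸ h) (hc.coprime_dvd_left (da c)) da)]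

theorem N {K : Type*} [Field K] [Fintype K] {m r : ℕ} (hK : Fintype.card K = 3 ^ (2 * m + 1))
    (hq : 3 ^ (2 * m + 1) = 12 * r ^ 2 + 12 * r + 3) : Nat.card (Lie.twistedG2 K (3 ^ m)) =
      (3 ^ (2 * m + 1)) ^ 3 * (2 * (6 * r ^ 2 + 6 * r + 1)) * (2 * (3 * r ^ 2 + 3 * r + 1)) * 2 *
        ((12 * r ^ 2 + 18 * r + 7) * (12 * r ^ 2 + 6 * r + 1)) := by
  rw [Cfsg.Agent.S1069.result hK, hq, show 12 * r ^ 2 + 12 * r + 3 - 1 = 2 * (6 * r ^ 2 + 6 * r + 1) by omega]
  ring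

theorem main {K : Type*} [Field K] [Fintype K] {m : ℕ} (hm : 1 ≤ m) (hK : Fintype.card K = 3 ^ (2 * m + 1))
    (hc : Nat.card G = Nat.card (Lie.twistedG2 K (3 ^ m))) (hA : Iso (3 ^ (2 * m + 1) + 3 ^ (m + 1) + 1) G)
    (hB : Iso (3 ^ (2 * m + 1) - 3 ^ (m + 1) + 1) G) : Nonempty (G ≃* Lie.twistedG2 K (3 ^ m)) := by
  obtain ⟨r, hr, h3, hq, hs⟩ := H84.RN.param hm
  have n5 : ¬ 5 ∣ Nat.card G := by
    have : ∀ m, 3 ^ (2 * m + 1) % 5 = 2 ∨ 3 ^ (2 * m + 1) % 5 = 3 := fun m => by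
      induction m with
      | zero => simp
      | succ m ih => rw [show 3 ^ (2 * (m + 1) + 1) = 9 * 3 ^ (2 * m + 1) by ring]; omega
    have k := this m
    rw [hc, Cfsg.Agent.S1069.result hK]
    generalize 3 ^ (2 * m + 1) = q at k
    obtain ⟨j, rfl | rfl⟩ : ∃ j, q = 5 * j + 2 ∨ q = 5 * j + 3 := ⟨q / 5, by omega⟩ <;>
      simp [Nat.dvd_iff_mod_eq_zero, Nat.mul_mod, Nat.add_mod, Nat.pow_mod]
  rw [N hK hq] at hc
  obtain ⟨A, eA⟩ : ∃ A, A = 12 * r ^ 2 + 18 * r + 7 := ⟨_, rfl⟩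
  obtain ⟨B, eB⟩ : ∃ B, B = 12 * r ^ 2 + 6 * r + 1 := ⟨_, rfl⟩
  rw [show 3 ^ (2 * m + 1) + 3 ^ (m + 1) + 1 = A by omega] at hA
  rw [show 3 ^ (2 * m + 1) - 3 ^ (m + 1) + 1 = B by omega] at hB
  have r2 : r ≤ r ^ 2 := Nat.le_self_pow two_ne_zero r
  have c : A.Coprime B := Nat.isCoprime_iff_coprime.1 ⟨-r, r + 1, by rw [eA, eB]; push_cast; ring⟩
  have a6 : A.Coprime 6 := Nat.isCoprime_iff_coprime.1 ⟨1, -(2 * r ^ 2 + 3 * r + 1), by rw [eA]; push_cast; ring⟩
  have b6 : B.Coprime 6 := Nat.isCoprime_iff_coprime.1 ⟨1, -(2 * r ^ 2 + r), by rw [eB]; push_cast; ring⟩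
  have a2 := a6.coprime_dvd_right (show 2 ∣ 6 by decide)
  have b2 := b6.coprime_dvd_right (show 2 ∣ 6 by decide)
  have n16 : ¬ 16 ∣ Nat.card G := fun e => by
    rw [hc, show ∀ q a b c : ℕ, q * (2 * a) * (2 * b) * 2 * c = 8 * (q * a * b * c) by intros; ring,
      show 16 = 8 * 2 from rfl, Nat.mul_dvd_mul_iff_left (by decide), ← eA, ← eB] at e
    refine Odd.not_two_dvd_nat ((((Odd.pow (by decide)).pow.mul ⟨3 * r ^ 2 + 3 * r, by ring⟩).mul ?_).mul
      ((Nat.coprime_two_right.1 a2).mul (Nat.coprime_two_right.1 b2))) e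
    exact ((Nat.even_mul_succ_self r).mul_left 3).add_one.of_dvd_nat (dvd_of_eq (by ring))
  obtain ⟨T, _, _, hT, d⟩ := struct hA hB c a6 b6 (by omega) (by omega) (by rw [hc, eA, eB]; exact Dvd.intro_left _ rfl)
    (by rw [hc]; exact (Dvd.intro_left _ rfl).mul_right _) n16
  have q := QuotientGroup.mk'_surjective (oddCore G)
  have cG := card_eq_card_quotient_mul_card_subgroup (oddCore G)
  have dT : Nat.card T ∣ Nat.card G := cG ▸ (card_subgroup_dvd_card T).mul_right _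
  have tA := (hA.quot _ q).sub T
  have tB := (hB.quot _ q).sub T
  rcases cases hT (fun e => n16 (e.trans dT)) with ⟨n, hn, h⟩ | ⟨p, ⟨k, rfl⟩, h⟩ | h | ⟨L, _, _, n, hn, hL, ⟨e⟩⟩
  · have e := (H24.L2.facts h).1
    have : n < 4 := not_le.1 fun k => n16 (((pow_dvd_pow 2 k).trans (e ▸ (Dvd.intro _ rfl).mul_left _)).trans dT)
    have := (Nat.mul_le_mul (show 37 ≤ A by omega) (show 19 ≤ B by omega)).trans (Nat.le_of_dvd Nat.card_pos d)
    rw [e] at this
    interval_cases n <;> simp at this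
  · obtain ⟨e, ⟨x, hx⟩, y, hy⟩ := H24.L2.facts h
    have pp : IsPrimePow (2 * k + 1) := let ⟨_, _, _, a, _⟩ := h; a ▸ Fintype.isPrimePow_card_of_field
    rw [Nat.add_sub_cancel, Nat.gcd_eq_left (dvd_mul_right 2 k)] at e hx hy
    rw [Nat.mul_div_cancel_left _ two_pos] at e hx
    rw [show (2 * k + 1 + 1) / 2 = k + 1 by omega] at hy
    obtain ⟨o, o1, o2⟩ : ∃ o, (o = k ∨ o = k + 1) ∧ (A ∣ 2 * k + 1 ∧ B = o ∨ B ∣ 2 * k + 1 ∧ A = o) := by
      rcases Nat.even_or_odd k with h | h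
      · exact ⟨_, .inr rfl, l2num c a2 b2 (by omega) (by omega) (d.trans (dvd_of_eq (e.trans (by ring))))
          h.two_dvd (hx ▸ tA x) (hx ▸ tB x) (hy ▸ tA y) (hy ▸ tB y) pp⟩
      · exact ⟨_, .inl rfl, l2num c a2 b2 (by omega) (by omega) (d.trans (dvd_of_eq (e.trans (by ring))))
          h.add_one.two_dvd (hy ▸ tA y) (hy ▸ tB y) (hx ▸ tA x) (hx ▸ tB x) pp⟩
    exfalso
    rcases o2 with ⟨⟨j, hj⟩, rfl⟩ | ⟨⟨j, hj⟩, rfl⟩
    · have : j < 2 := not_le.1 fun e => by have := Nat.mul_le_mul_left A e; omega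
      have : r = 1 ∧ k = 18 := by
        interval_cases j
        · omega
        · have : r < 2 := not_le.1 fun e => by have := Nat.mul_le_mul_right r e; rw [← sq] at this; omega
          interval_cases r; omega
      obtain ⟨rfl, rfl⟩ := this
      subst eA
      rw [hq] at hc
      have := Fact.mk (by norm_num : Nat.Prime 7)
      have := Fact.mk (by norm_num : Nat.Prime 37)
      have k : 7 * Nat.card T ∣ T.index * Nat.card (oddCore G) * Nat.card T := by
        rw [mul_right_comm, T.index_mul_card, ← cG, hc, e]; norm_num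
      rcases (Nat.Prime.dvd_mul (by norm_num)).1 ((Nat.mul_dvd_mul_iff_right Nat.card_pos).1 k) with k | k
      · obtain ⟨P⟩ : Nonempty (Sylow 37 T) := inferInstance
        have g := card_p P.2 (P.dvd_card_of_dvd_card (by rw [e]; decide)) (by rw [e]; decide)
        rw [← card_map_subtype] at g
        have := free (k := 1) (r := 7) le_rfl (by norm_num) ((k.mul_right _).trans (frat T P bot_le bot_le)) fun x hx y hy c =>
          by_contra fun y1 => by
            simpa [(hA.quot _ q).nc c.symm (fun e => y1 (orderOf_eq_one_iff.1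
              (e.eq_one_of_dvd ((orderOf_dvd_natCard _ hy).trans g.dvd)))) (by rw [hx]; decide)] using hx
        rw [g] at this
        exact absurd this (by decide)
      · obtain ⟨P⟩ : Nonempty (Sylow 7 (oddCore G)) := inferInstance
        have g := card_p (P.2.map (oddCore G).subtype) (card_map_subtype P.1 ▸ P.dvd_card_of_dvd_card k)
          (by rw [hc]; decide)
        have := hA.free (k := 1) (r := 37) le_rfl (by norm_num) dvd_rfl ((((by rw [e]; decide : _ ∣ _).trans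
          (card_subgroup_dvd_card T)).mul_right _).trans (frat _ P bot_le bot_le)) (by rw [g]; decide)
        rw [g] at this
        exact absurd this (by decide)
    · have : j < 4 := not_le.1 fun e => by have := Nat.mul_le_mul_left B e; omega
      interval_cases j
      · omega
      · omega
      · omega
      obtain ⟨i, hi⟩ := H24.L2.pow_three h (by omega)
      have := ((b6.coprime_dvd_right (show 3 ∣ 6 by decide)).pow_right i).eq_one_of_dvd (hi ▸ Dvd.intro _ hj.symm)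
      omega
  · exact absurd (h.trans dT) n5
  obtain ⟨t, -, t3, tq, -⟩ := H84.RN.param hn
  have cT := (Nat.card_congr e.toEquiv).trans (N hL tq)
  have k : ∀ {D o}, Iso D T → D.Coprime 6 → (2 * o ∣ 3 ^ (2 * n + 1) - 1 ∨ 2 * o ∣ (3 ^ (2 * n + 1) + 1) / 2) →
      D.Coprime (2 * o) := fun {D o} h c ho => by
    obtain ⟨g, hg⟩ := (Cfsg.Agent.S1159.result hn hL (2 * o)).2 (by tauto)
    rw [← e.symm.orderOf_eq] at hg
    exact by_contra fun n => ncop Nat.prime_two ((Dvd.intro _ hg.symm).trans (h _ fun k => n (hg ▸ k.symm)))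
      (c.coprime_dvd_right (show 2 ∣ 6 by decide)).symm
  have l : ∀ {D}, Iso D T → D.Coprime 6 → D.Coprime ((3 ^ (2 * n + 1)) ^ 3 * (2 * (6 * t ^ 2 + 6 * t + 1)) *
      (2 * (3 * t ^ 2 + 3 * t + 1)) * 2) := fun h c =>
    (((((c.coprime_dvd_right (show 3 ∣ 6 by decide)).pow_right _).pow_right _).mul_right
      (k h c (.inl (dvd_of_eq (by omega))))).mul_right (k h c (.inr (dvd_of_eq (by omega))))).mul_right
      (c.coprime_dvd_right (show 2 ∣ 6 by decide))
  have d1 := Nat.le_of_dvd (by positivity) (((l tA a6).mul_left (l tB b6)).dvd_of_dvd_mul_left (cT ▸ d))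
  have d2 := Nat.le_of_dvd Nat.card_pos dT
  rw [cT, hc, hq, tq] at d2
  obtain rfl : r = t := le_antisymm (not_lt.1 fun e => d1.not_gt (by rw [eA, eB]; gcongr))
    (not_lt.1 fun e => d2.not_gt (by gcongr))
  obtain rfl : m = n := Nat.pow_right_injective (show 2 ≤ 3 by decide) (h3.trans t3.symm)
  have i1 : T.index * Nat.card (oddCore G) = 1 := Nat.eq_of_mul_eq_mul_right (Nat.card_pos (α := T)) (by
    rw [mul_right_comm, T.index_mul_card, ← cG, one_mul, cT, hc])
  obtain ⟨f⟩ := H7.RS.Pre.nonempty_equiv hm ((H7.RS.Pre.ofRee (H30.reeG2 hK)).map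
    (FiniteField.ringEquivOfCardEq (hL.trans hK.symm))) (H7.RS.Pre.ofRee (H30.reeG2 hL))
  exact ⟨(((QuotientGroup.quotientBot.symm.trans (QuotientGroup.quotientMulEquivOfEq
    (card_eq_one.1 (Nat.eq_one_of_mul_eq_one_left i1)).symm)).trans (topEquiv.symm.trans (MulEquiv.subgroupCongr
      (index_eq_one.1 (Nat.eq_one_of_mul_eq_one_right i1)).symm))).trans e).trans f.symm⟩

end H75.RO
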