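import Cfsg.Agent.H86.SPGDef

/-! The minimum weight of the Reed-Muller code, for functions on an abelian group. -/

set_option autoImplicit false
set_option linter.unusedSectionVars false

namespace H75.SPDG

variable {M : Type} [Group M] {F : Type} [Field F]

/-- `Dg (r + 1) f`: `f` has degree at most `r`. -/
def Dg : ℕ → (M → F) → Prop
  | 0, f => ∀ x, f x = 0
  | r + 1, f => ∀ a, Dg r fun x => f (x * a) - f x

theorem dg_zero : ∀ r : ℕ, Dg r (fun _ : M => (0 : F))
  | 0 => fun _ => rfl
  | r + 1 => fun a => by simpa using dg_zero r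

theorem dg_congr {r : ℕ} {f g : M → F} (h : Dg r f) (e : ∀ x, f x = g x) : Dg r g := by
  rwa [← show f = g from funext e]

theorem dg_add : ∀ (r : ℕ) (f g : M → F), Dg r f → Dg r g → Dg r fun x => f x + g x
  | 0, f, g, hf, hg => fun x => by beta_reduce; rw [hf x, hg x, add_zero]
  | r + 1, f, g, hf, hg => fun a =>
    dg_congr (dg_add r _ _ (hf a) (hg a)) fun x => by ring

theorem dg_shift (hc : ∀ x y : M, x * y = y * x) :
    ∀ (r : ℕ) (f : M → F) (a : M), Dg r f → Dg r fun x => f (x * a)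
  | 0, f, a, hf => fun x => hf _
  | r + 1, f, a, hf => fun b =>
    dg_congr (dg_shift hc r _ a (hf b)) fun x => by
      beta_reduce; rw [mul_assoc, mul_assoc, hc a b]

theorem dg_mul (hc : ∀ x y : M, x * y = y * x) :
    ∀ (n r s : ℕ) (f g : M → F), r + s = n + 1 → Dg r f → Dg s g → Dg n fun x => f x * g x := by
  intro n
  induction n with
  | zero =>
    intro r s f g h hf hg x
    beta_reduce
    rcases r with _ | r
    · rw [hf x, zero_mul]
    · obtain rfl : s = 0 := by omega
      rw [hg x, mul_zero]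
  | succ n ih =>
    intro r s f g h hf hg
    rcases r with _ | r
    · exact dg_congr (dg_zero _) fun x => by rw [hf x, zero_mul]
    rcases s with _ | s
    · exact dg_congr (dg_zero _) fun x => by rw [hg x, mul_zero]
    intro a
    exact dg_congr (dg_add n _ _ (ih r (s + 1) _ _ (by omega) (hf a) (dg_shift hc _ _ a hg))
      (ih (r + 1) s _ _ (by omega) hf (hg a))) fun x => by ring

theorem dg_const (c : F) : Dg 1 fun _ : M => c := fun _ _ => sub_self _

theorem dg_smul (hc : ∀ x y : M, x * y = y * x) (c : F) {r : ℕ} {f : M → F} (h : Dg r f) :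
    Dg r fun x => c * f x :=
  dg_mul hc r 1 r _ _ (by omega) (dg_const c) h

theorem dg_sum {ι : Type} (r : ℕ) (s : Finset ι) (f : ι → M → F) (h : ∀ i, Dg r (f i)) :
    Dg r fun x => ∑ i ∈ s, f i x := by
  classical
  induction s using Finset.induction_on with
  | empty => simpa using dg_zero r
  | insert i s hi ih =>
    exact dg_congr (dg_add r _ _ (h i) ih) fun x => by rw [Finset.sum_insert hi]

theorem dg_prod (hc : ∀ x y : M, x * y = y * x) {ι : Type} (d : ℕ) (s : Finset ι)
    (f : ι → M → F) (h : ∀ i, Dg (d + 1) (f i)) :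
    Dg (d * s.card + 1) fun x => ∏ i ∈ s, f i x := by
  classical
  induction s using Finset.induction_on with
  | empty => simpa using dg_const (1 : F)
  | insert i s hi ih =>
    refine dg_congr (dg_mul hc _ _ _ _ _ ?_ (h i) ih) fun x => by rw [Finset.prod_insert hi]
    rw [Finset.card_insert_of_notMem hi]; ring

theorem dg_aff (c : F) (g : M → F) (h : ∀ x y, g (x * y) = g x + g y) :
    Dg 2 fun x => c + g x := fun a b x => by
  simp only [h]; ring

theorem dg_det (hc : ∀ x y : M, x * y = y * x) {l : ℕ} (φ : F →+* F)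
    (c : Matrix (Fin l) (Fin l) F) (B : M → Matrix (Fin l) (Fin l) F)
    (hB : ∀ x y, B (x * y) = B x + B y) : Dg (l + 1) fun x => φ (c + B x).det := by
  have h1 : ∀ σ : Equiv.Perm (Fin l), Dg (l + 1) fun x =>
      ((Equiv.Perm.sign σ : ℤ) : F) * ∏ i, (φ (c (σ i) i) + φ (B x (σ i) i)) := by
    intro σ
    have := dg_prod hc 1 Finset.univ (fun i x => φ (c (σ i) i) + φ (B x (σ i) i))
      fun i => dg_aff _ _ fun x y => by rw [hB, Matrix.add_apply, map_add]
    rw [Finset.card_univ, Fintype.card_fin, one_mul] at this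
    exact dg_smul hc _ this
  refine dg_congr (dg_sum _ Finset.univ _ h1) fun x => ?_
  rw [Matrix.det_apply', map_sum]
  refine Finset.sum_congr rfl fun σ _ => ?_
  rw [map_mul, map_intCast, map_prod]
  simp only [Matrix.add_apply, map_add]

theorem weight [Finite M] : ∀ (r : ℕ) (f : M → F), Dg (r + 1) f → (∃ x, f x ≠ 0) →
    Nat.card M ≤ 2 ^ r * {x | f x ≠ 0}.ncard := by
  have h0 : ∀ f : M → F, (∀ a x, f (x * a) - f x = 0) → (∃ x, f x ≠ 0) →
      Nat.card M ≤ {x | f x ≠ 0}.ncard := by
    rintro f h ⟨x, hx⟩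
    have : {x | f x ≠ 0} = Set.univ := Set.eq_univ_of_forall fun y => by
      have := h (x⁻¹ * y) x
      rw [mul_inv_cancel_left, sub_eq_zero] at this
      show f y ≠ 0
      rwa [this]
    rw [this, Set.ncard_univ]
  intro r
  induction r with
  | zero => intro f hf hx; simpa using h0 f hf hx
  | succ r ih =>
    intro f hf hx
    by_cases h : ∀ a x, f (x * a) - f x = 0
    · exact (h0 f h hx).trans (Nat.le_mul_of_pos_left _ (by positivity))
    push Not at h
    obtain ⟨a, ha⟩ := h
    refine (ih _ (hf a) ha).trans ?_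
    rw [pow_succ, mul_assoc]
    refine Nat.mul_le_mul_left _ ?_
    have hs : {x | f (x * a) - f x ≠ 0} ⊆ (fun x => x * a⁻¹) '' {x | f x ≠ 0} ∪ {x | f x ≠ 0} := by
      intro x hx
      by_cases h1 : f x = 0
      · refine Or.inl ⟨x * a, ?_, by simp⟩
        intro h2
        exact hx (by rw [h1, h2, sub_zero])
      · exact Or.inr h1
    refine (Set.ncard_le_ncard hs (Set.toFinite _)).trans ((Set.ncard_union_le _ _).trans ?_)
    have := Set.ncard_image_le (f := fun x => x * a⁻¹) (Set.toFinite {x | f x ≠ 0})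
    omega

theorem pow_pred (a : F) : ∀ k : ℕ, a ^ (2 ^ k - 1) = ∏ i ∈ Finset.range k, a ^ 2 ^ i
  | 0 => by simp
  | k + 1 => by
    rw [Finset.prod_range_succ, ← pow_pred a k, ← pow_add]
    have : 0 < 2 ^ k := by positivity
    congr 1; omega

theorem main [Finite M] [CharP F 2] [Finite F] (l : ℕ) (B B' : M → Matrix (Fin l) (Fin l) F)
    (c : Matrix (Fin l) (Fin l) F) (hc : ∀ x y : M, x * y = y * x)
    (hB : ∀ x y, B (x * y) = B x + B y) (hB' : ∀ x y, B' (x * y) = B' x + B' y) (S : Set M)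
    (hS : ∀ x, x ∉ S → ((B x).det = 0 ↔ (c + B' x).det = 0))
    (hx : ∃ x, ¬ ((B x).det = 0 ↔ (c + B' x).det = 0)) :
    Nat.card M ≤ Nat.card F ^ l * S.ncard := by
  classical
  have := Fintype.ofFinite F
  obtain ⟨k, -, hk⟩ := FiniteField.card F 2
  rw [Nat.card_eq_fintype_card (α := F), hk]
  have hp : ∀ (c : Matrix (Fin l) (Fin l) F) (B : M → Matrix (Fin l) (Fin l) F),
      (∀ x y, B (x * y) = B x + B y) → Dg (l * k + 1) fun x => (c + B x).det ^ (2 ^ (k : ℕ) - 1) := by
    intro c B hB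
    have := dg_prod hc l (Finset.range k) (fun i x => iterateFrobenius F 2 i (c + B x).det)
      fun i => dg_det hc _ c B hB
    rw [Finset.card_range] at this
    refine dg_congr this fun x => ?_
    rw [pow_pred]
    exact Finset.prod_congr rfl fun i _ => iterateFrobenius_def ..
  have hz : ∀ a b : F, a ^ (2 ^ (k : ℕ) - 1) + (-1) * b ^ (2 ^ (k : ℕ) - 1) = 0 ↔
      (a = 0 ↔ b = 0) := by
    intro a b
    have h1 : 2 ^ (k : ℕ) - 1 ≠ 0 := by
      have : 1 < 2 ^ (k : ℕ) := Nat.one_lt_two_pow k.ne_zero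
      omega
    have h2 : ∀ a : F, a ≠ 0 → a ^ (2 ^ (k : ℕ) - 1) = 1 := fun a ha => by
      rw [← hk]; exact FiniteField.pow_card_sub_one_eq_one a ha
    by_cases ha : a = 0 <;> by_cases hb : b = 0
    · simp [ha, hb, h1]
    · simp [ha, hb, h1]
    · simp [ha, hb, h1]
    · simp [ha, hb, h2 a ha, h2 b hb]
  have hd := dg_add _ _ _ (hp 0 B hB) (dg_smul hc (-1) (hp c B' hB'))
  have hw := weight _ _ hd (by
    obtain ⟨x, hx⟩ := hx
    exact ⟨x, fun h => hx (by rw [zero_add] at h; exact (hz _ _).1 h)⟩)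
  refine hw.trans ?_
  rw [← pow_mul, mul_comm (k : ℕ) l]
  refine Nat.mul_le_mul_left _ (Set.ncard_le_ncard (fun x hx => ?_) (Set.toFinite _))
  by_contra h
  exact hx (by rw [zero_add]; exact (hz _ _).2 (hS x h))

theorem jobDG : H86.SPG.DG := fun _ _ _ _ _ _ _ l B B' c hc hB hB' S hS hx =>
  main l B B' c hc hB hB' S hS hx

end H75.SPDG
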