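/- U5 tower (row S5258), slot Oc: normalising the orbit of the second centre. -/
import Cfsg.Agent.H90.U5Kit

set_option autoImplicit false
set_option linter.unusedSectionVars false
set_option linter.unusedSimpArgs false
set_option linter.unusedVariables false

open Subgroup H90.RF H90.U5

universe v

namespace H75.U5Oc

variable {K : Type*} [Field K] [Finite K] {T : BF K}

/-- a parameter of trace zero can be removed -/
theorem om_shift {β γ δ : K} {Y : Subgroup (Equiv.Perm (Co T))} (hγ : γ + T.σ γ = 0)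
    (h : Om T β γ δ Y) : Om T β 0 δ Y := by
  intro α hα
  refine (h α hα).imp id fun ⟨s, hs⟩ =>
    ⟨s * uu T 0 (-γ) (by simp only [map_neg, map_zero, mul_zero]; linear_combination -hγ), fun z hz => ?_⟩
  obtain ⟨h1, h2⟩ := hs z hz
  have e : ∀ r : Co T, (s * r)⁻¹ * α z * (s * r) = r⁻¹ * (s⁻¹ * α z * s) * r := fun r => by group
  have ha : (s⁻¹ * α z * s).a = (α z).a := by simp
  rw [e]
  generalize s⁻¹ * α z * s = w at h1 h2 ha
  constructor
  · simp [uu, h1]
  · simp [uu, h2, ha]; ring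

/-- transport of the orbit along an automorphism of `S` -/
theorem om_cj {β γ δ μ : K} {Y : Subgroup (Equiv.Perm (Co T))} (l : Lg (sQ1 T) Y) (θ : MulAut (Co T))
    (ha : ∀ u, (θ u).a = u.a) (hb : ∀ u, (θ u).b = u.b) (he : ∀ u, (θ u).e = u.e)
    (hc : ∀ u, (θ u).c = u.c + β * T.σ u.a)
    (hd : ∀ u, (θ u).d = u.d + β * T.σ u.c + μ * u.a + T.σ β * u.b + δ * T.σ u.a)
    (h : Om T β γ δ Y) : Om T 0 (γ - μ) 0 (cjY θ Y) := by
  intro y hy
  obtain ⟨α, hα, e⟩ := mem_cjY.1 hy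
  have hZ : ∀ u, θ u ∈ sZ2 T ↔ u ∈ sZ2 T := fun u => by
    simp only [mem_sZ2, ha, hb, he, hc]
    constructor <;> rintro ⟨h1, h2, h3, h4⟩ <;> exact ⟨h1, h2, by simpa [h1] using h3, h4⟩
  refine (h α hα).imp (fun k z hz => (hZ _).1 (e z ▸ k _ ((hZ z).2 hz))) fun ⟨s, hs⟩ =>
    ⟨θ.symm s, fun z hz => ?_⟩
  obtain ⟨h1, h2⟩ := hs (θ z) ((hZ z).2 hz)
  have hQ : s⁻¹ * α (θ z) * s ∈ sQ1 T := by
    simpa using (nQ1 (T := T)).conj_mem _ ((l.au α hα).mem _ (Z2_le_Q1 ((hZ z).2 hz))) s⁻¹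
  have ev : s⁻¹ * α (θ z) * s = θ ((θ.symm s)⁻¹ * y z * θ.symm s) := by simp [e]
  have ea : ((θ.symm s)⁻¹ * y z * θ.symm s).a = (y z).a := by simp
  rw [ev] at h1 h2 hQ
  rw [e, ha] at h1 h2
  have hb' := hQ.1
  rw [hb] at hb'
  rw [hc, ea] at h1
  rw [hd, ea, hb'] at h2
  generalize (θ.symm s)⁻¹ * y z * θ.symm s = w at h1 h2
  have hc0 : w.c = 0 := by linear_combination h1
  rw [hc0, map_zero] at h2
  exact ⟨by simp [hc0], by linear_combination h2⟩

/-- the automorphism in odd characteristic -/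
def th1 (δ : K) (h2 : (2 : K) ≠ 0) (u : Co T) : Co T where
  a := u.a
  b := u.b
  c := u.c
  e := u.e
  d := u.d + δ * T.σ u.a
  g := u.g + (T.σ δ * u.a ^ 2 + δ * T.σ u.a ^ 2) / 2
  he := u.he
  hg := by
    simp only [map_add, map_mul, map_div₀, map_pow, map_ofNat, T.sq]
    linear_combination u.hg + (T.σ δ * u.a ^ 2 + δ * T.σ u.a ^ 2) * (mul_inv_cancel₀ h2)

theorem au_th1 (δ : K) (h2 : (2 : K) ≠ 0) : Au ⊤ (th1 (T := T) δ h2) := by
  refine Au.of_inj (fun _ _ => trivial) (fun u _ w _ => ?_) fun u _ w _ e => ?_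
  · ext
    · rfl
    · rfl
    · rfl
    · rfl
    · simp [th1]; ring
    · simp only [th1, Co.mul_g, Co.mul_a, map_add, map_mul, T.sq]
      linear_combination (T.σ δ * u.a * w.a + δ * T.σ u.a * T.σ w.a) * (mul_inv_cancel₀ h2)
  · have ea : u.a = w.a := (congrArg Co.a e :)
    have ed := congrArg Co.d e
    have eg := congrArg Co.g e
    simp only [th1, ea] at ed eg
    exact Co.ext ea (congrArg Co.b e :) (congrArg Co.c e :) (congrArg Co.e e :) (add_right_cancel ed)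
      (add_right_cancel eg)

/-- the automorphism over the field with four elements -/
def th2 (β μ : K) (h2 : (2 : K) = 0) (hμ : μ + T.σ μ = β * T.σ β) (u : Co T) : Co T where
  a := u.a
  b := u.b
  c := u.c + β * T.σ u.a
  e := u.e
  d := u.d + β * T.σ u.c + μ * u.a + T.σ β * u.b
  g := u.g + (T.σ β * u.a * u.c + β * T.σ u.a * T.σ u.c + β * T.σ β * (u.a * T.σ u.a) + T.σ β * T.σ u.a * u.b)
  he := u.he
  hg := by
    simp only [map_add, map_mul, T.sq]
    linear_combination u.hg - u.a * T.σ u.a * hμ +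
      (T.σ β * u.a * u.c + β * T.σ u.a * T.σ u.c + β * T.σ β * (u.a * T.σ u.a)) * h2

theorem au_th2 (β μ : K) (h2 : (2 : K) = 0) (hμ : μ + T.σ μ = β * T.σ β) (hs : ∀ x, T.σ x = x ^ 2) :
    Au ⊤ (th2 (T := T) β μ h2 hμ) := by
  refine Au.of_inj (fun _ _ => trivial) (fun u _ w _ => ?_) fun u _ w _ e => ?_
  · have k1 := hs u.a
    have k2 := hs (T.σ u.a)
    rw [T.sq] at k2
    ext
    · rfl
    · rfl
    · simp [th2]; ring
    · rfl
    · simp [th2]; ring
    · simp only [th2, Co.mul_g, Co.mul_a, Co.mul_b, Co.mul_c, map_add, map_mul, T.sq]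
      linear_combination -(T.σ β * w.b) * k1 - (β * T.σ w.b) * k2 - u.a * T.σ w.a * hμ +
        (T.σ β * T.σ u.a * w.b + T.σ β * u.a * w.a * w.b + β * T.σ u.a * T.σ w.c + T.σ β * w.a * u.c +
          β * T.σ β * T.σ u.a * w.a) * h2
  · have ea : u.a = w.a := (congrArg Co.a e :)
    have eb : u.b = w.b := (congrArg Co.b e :)
    have ec := congrArg Co.c e
    simp only [th2, ea] at ec
    have ec' := add_right_cancel ec
    have ed := congrArg Co.d e
    have eg := congrArg Co.g e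
    simp only [th2, ea, eb, ec'] at ed eg
    exact Co.ext ea eb ec' (congrArg Co.e e :) (by linear_combination ed) (add_right_cancel eg)

/-- the first coordinate of a moved second centre takes every value -/
theorem sur_a {Y : Subgroup (Equiv.Perm (Co T))} (l : Lg (sQ1 T) Y) (o : Opp T Y) {α : Equiv.Perm (Co T)}
    (hα : α ∈ Y) (hn : ¬ Pr α (sZ2 T)) (t : K) : ∃ z ∈ sZ2 T, (α z).a = t := by
  have hx : ∀ d, xd T d ∈ sZ2 T := fun d => ⟨rfl, rfl, rfl, rfl⟩
  have a := l.au α hα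
  have inj : Function.Injective fun d => (α (xd T d)).a := fun d d' e => by
    have hm := mul_mem (inv_mem (hx d)) (hx d')
    have := ((o α hα).resolve_left hn _ hm (by
      rw [a.mul _ (Z2_le_Q1 (inv_mem (hx d))) _ (Z2_le_Q1 (hx d')), a.inv (Z2_le_Q1 (hx d))]
      simp only [Co.mul_a, Co.inv_a]
      linear_combination -e)).2.2.2.2
    simp [xd] at this
    linear_combination -this
  obtain ⟨d, hd⟩ := Finite.surjective_of_injective inj t
  exact ⟨_, hx d, hd⟩

/-- the equations forced by a diagonal automorphism -/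
theorem diag {p : ℕ} {Y0 Y1 Y2 : Subgroup (Equiv.Perm (Co T))} (tr : Tri T p Y0 Y1 Y2) (o : Opp T Y1)
    {β γ δ : K} (h : Om T β γ δ Y1) {α : Equiv.Perm (Co T)} (hα : α ∈ Y1) (hn : ¬ Pr α (sZ2 T))
    {x : Kˣ × Kˣ} (hx : HT T Y0 x) :
    β * (x.1 * x.2 - T.σ x.1) = 0 ∧ δ * (x.1 * x.2 * T.σ x.2 - T.σ x.1) = 0 := by
  obtain ⟨y, hy, ey⟩ := hx
  obtain ⟨τ, hτ, eτ⟩ := tr.res1 y hy
  have a := tr.l1.au α hα
  have e : ∀ z ∈ sZ2 T, (τ * α) z = dg T x.1 x.2 (α z) := fun z hz => by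
    rw [Equiv.Perm.mul_apply, eτ _ (a.mem _ (Z2_le_Q1 hz)), ey]
  obtain ⟨s, hs⟩ := (h α hα).resolve_left hn
  obtain ⟨r, hr⟩ := (h _ (mul_mem hτ hα)).resolve_left fun k => hn fun z hz => by
    have := k z hz
    rw [e z hz] at this
    simpa [mem_sZ2, dg] using this
  have key : ∀ t, (x.1 * r.b - x.1 * x.2 * s.b) * t + β * (x.1 * x.2 - T.σ x.1) * T.σ t = 0 ∧
      (x.1 * x.2 * T.σ x.2 * (γ - s.e + s.b * T.σ s.b) + x.1 * r.e - x.1 * x.2 * s.b * T.σ r.b - γ * x.1) * t +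
      (δ * (x.1 * x.2 * T.σ x.2 - T.σ x.1) + β * x.1 * x.2 * (T.σ r.b - T.σ x.2 * T.σ s.b)) * T.σ t = 0 := by
    intro t
    obtain ⟨z, hz, rfl⟩ := sur_a tr.l1 o hα hn t
    have hu := a.mem _ (Z2_le_Q1 hz)
    have hu' : dg T x.1 x.2 (α z) ∈ sQ1 T := by simp [mem_sQ1, dg, hu.1, hu.2]
    obtain ⟨h1, h2⟩ := hs z hz
    obtain ⟨h3, h4⟩ := hr z hz
    rw [(cj_Q1 s hu).2.1] at h1
    rw [(cj_Q1 s hu).2.2] at h2
    rw [e z hz, (cj_Q1 r hu').2.1] at h3
    rw [e z hz, (cj_Q1 r hu').2.2] at h4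
    simp only [dg, map_mul] at h3 h4
    constructor
    · linear_combination h3 - x.1 * x.2 * h1
    · linear_combination h4 - x.1 * x.2 * T.σ x.2 * h2 - x.1 * x.2 * (T.σ r.b - T.σ x.2 * T.σ s.b) * h1
  obtain ⟨k1, k2⟩ := T.lin_zero fun t => (key t).1
  obtain ⟨-, k3⟩ := T.lin_zero fun t => (key t).2
  have k4 : r.b = x.2 * s.b := mul_left_cancel₀ x.1.ne_zero (by linear_combination k1)
  refine ⟨k2, ?_⟩
  rw [k4, map_mul] at k3
  linear_combination k3

theorem om_zero {β γ δ : K} {Y : Subgroup (Equiv.Perm (Co T))} (h : Om T β γ δ Y) (pa : Par T β γ δ)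
    (k : ∀ α ∈ Y, ¬ Pr α (sZ2 T) → β = 0 ∧ δ = 0) : Om T 0 0 0 Y := by
  intro α hα
  by_cases hn : Pr α (sZ2 T)
  · exact Or.inl hn
  obtain ⟨rfl, rfl⟩ := k α hα hn
  exact om_shift (by simpa using pa.1) h α hα

theorem jobOc : H90.U5.JobOc.{v} := fun p _ K _ _ _ T => by
  intro Y0 Y1 Y2 tr o β γ δ h pa
  refine ⟨fun hc => ?_, fun h2 ⟨x, hx⟩ ht => om_zero h pa fun α hα hn => ⟨?_, pa.2.2 h2⟩,
    fun ht => om_zero h pa fun α hα hn => ?_⟩
  · by_cases h2 : (2 : K) = 0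
    · have hs := hc.resolve_left (not_not.2 h2)
      have hμ : γ + T.σ γ = β * T.σ β := by linear_combination pa.1 - β * T.σ β * h2
      obtain rfl := pa.2.2 h2
      have := om_cj (μ := γ) tr.l1 (au_th2 β γ h2 hμ hs).toTop (fun _ => rfl) (fun _ => rfl) (fun _ => rfl)
        (fun _ => rfl) (fun u => by simp [Au.toTop_apply, th2]) h
      exact ⟨_, by simpa using this⟩
    · obtain rfl := pa.2.1 h2
      have := om_cj (μ := 0) tr.l1 (au_th1 δ h2).toTop (fun _ => rfl) (fun _ => rfl) (fun _ => rfl)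
        (fun u => by simp [Au.toTop_apply, th1]) (fun u => by simp [Au.toTop_apply, th1]) h
      exact ⟨_, om_shift (by simpa using pa.1) this⟩
  · have x0 : x ≠ 0 := by rintro rfl; simp at hx
    have k := (diag tr o h hα hn (ht (Units.mk0 x x0))).1
    simp only [t2, Units.val_pow_eq_pow_val, Units.val_mk0, Units.val_inv_eq_inv_val] at k
    refine (mul_eq_zero.1 k).resolve_right fun e => hx ?_
    rw [← T.sq (x ^ 2)]
    congr 1
    rw [← sub_eq_zero.1 e]
    field_simp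
  · have x0 : T.ω ≠ 0 := fun e => T.ne (by rw [e, map_zero])
    have x1 : T.σ T.ω ≠ 0 := (map_ne_zero _).2 x0
    obtain ⟨k1, k2⟩ := diag tr o h hα hn (ht (Units.mk0 T.ω x0))
    simp only [t1, Units.val_mul, Units.val_pow_eq_pow_val, Units.val_mk0, Units.val_inv_eq_inv_val,
      Units.coe_map, MonoidHom.coe_coe, map_mul, map_pow, map_inv₀, T.sq] at k1 k2
    refine ⟨(mul_eq_zero.1 k1).resolve_right fun e => T.ne ?_, (mul_eq_zero.1 k2).resolve_right fun e => T.ne ?_⟩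
    · have : T.ω = 1 := by field_simp at e; linear_combination e
      rw [this, map_one]
    · have : (T.σ T.ω - 1) * (T.σ T.ω + 1) = 0 := by field_simp at e; linear_combination e
      rcases mul_eq_zero.1 this with k | k
      · have k' : T.σ T.ω = 1 := by linear_combination k
        have := congrArg T.σ k'
        rw [T.sq, map_one] at this
        rw [k', this]
      · have k' : T.σ T.ω = -1 := by linear_combination k
        have := congrArg T.σ k'
        rw [T.sq, map_neg, map_one] at this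
        rw [k', this]

end H75.U5Oc
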